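import Mathlib

set_option autoImplicit false
set_option linter.unusedSectionVars false
set_option linter.style.haveILetI false

/-! Descent of common kernels along a ring homomorphism of endomorphism rings. -/

namespace Cfsg.Agent.Lib.Helper11.Qd

open Module

/-- if three endomorphisms have trivial common kernel, so do their images under a ring
homomorphism of endomorphism rings -/
theorem common_ker_descent {F K : Type*} [Field F] [Field K] {W : Type*} [AddCommGroup W]
    [Module F W] {V : Type*} [AddCommGroup V] [Module K V]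
    (Ψ : Module.End F W →+* Module.End K V) (T₁ T₂ T₃ : Module.End F W)
    (h : ∀ v : W, T₁ v = 0 → T₂ v = 0 → T₃ v = 0 → v = 0) (x : V) (h1 : Ψ T₁ x = 0)
    (h2 : Ψ T₂ x = 0) (h3 : Ψ T₃ x = 0) : x = 0 := by
  obtain ⟨T, hT⟩ : ∃ T : W →ₗ[F] W × W × W, T = T₁.prod (T₂.prod T₃) := ⟨_, rfl⟩
  have hker : LinearMap.ker T = ⊥ := by
    rw [LinearMap.ker_eq_bot']
    intro v hv
    rw [hT] at hv
    have hv' : (T₁ v, T₂ v, T₃ v) = (0, 0, 0) := hv
    simp only [Prod.mk.injEq] at hv'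
    exact h v hv'.1 hv'.2.1 hv'.2.2
  obtain ⟨S, hS⟩ := T.exists_leftInverse_of_injective hker
  obtain ⟨S₁, hS₁⟩ : ∃ S₁ : Module.End F W, S₁ = S ∘ₗ LinearMap.inl F W (W × W) := ⟨_, rfl⟩
  obtain ⟨S₂, hS₂⟩ : ∃ S₂ : Module.End F W,
      S₂ = S ∘ₗ LinearMap.inr F W (W × W) ∘ₗ LinearMap.inl F W W := ⟨_, rfl⟩
  obtain ⟨S₃, hS₃⟩ : ∃ S₃ : Module.End F W,
      S₃ = S ∘ₗ LinearMap.inr F W (W × W) ∘ₗ LinearMap.inr F W W := ⟨_, rfl⟩
  have hsum : S₁ * T₁ + S₂ * T₂ + S₃ * T₃ = 1 := by
    apply LinearMap.ext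
    intro v
    have h0 := LinearMap.congr_fun hS v
    rw [LinearMap.comp_apply, LinearMap.id_apply, hT] at h0
    have h0' : S (T₁ v, T₂ v, T₃ v) = v := h0
    simp only [LinearMap.add_apply, Module.End.mul_apply, Module.End.one_apply, hS₁, hS₂, hS₃,
      LinearMap.comp_apply, LinearMap.inl_apply, LinearMap.inr_apply]
    rw [← map_add, ← map_add]
    simp only [Prod.mk_add_mk, add_zero, zero_add]
    exact h0'
  have hx : Ψ (S₁ * T₁ + S₂ * T₂ + S₃ * T₃) x = x := by
    rw [hsum, map_one, Module.End.one_apply]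
  rw [map_add, map_add, map_mul, map_mul, map_mul] at hx
  simp only [LinearMap.add_apply, Module.End.mul_apply, h1, h2, h3, map_zero, add_zero] at hx
  exact hx.symm

end Cfsg.Agent.Lib.Helper11.Qd
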