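import Mathlib
import Cfsg.Agent.Lib.Helper46.QdSylow
import Cfsg.Agent.Lib.Helper88.Involves

set_option autoImplicit false
set_option linter.unusedSectionVars false
set_option linter.style.haveILetI false

/-! Extraction of a `Qd(p)` section: the split case. -/

namespace Cfsg.Agent.Lib.Helper11.Qd

open Cfsg Cfsg.Agent.Lib.Helper46.SL2 Cfsg.Agent.Lib.Helper46.QdOver
  Cfsg.Agent.Lib.Helper46.QdSylow Cfsg.Agent.Lib.Helper88

universe u

variable {F : Type*} [Field F]

theorem emb_mul (A B : SL F) : emb (A * B) = emb A * emb B := by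
  apply eq_of_blk_col
  · rw [map_mul, blk_emb, blk_emb, blk_emb]
  · rw [col_mul, col_emb, col_emb, col_emb, mv_zero, add_zero]

theorem emb_one : emb (1 : SL F) = 1 := by
  apply eq_of_blk_col
  · rw [map_one, blk_emb]
  · rw [col_emb, col_one]

/-- `emb` as a homomorphism -/
def embHom : SL F →* QG F where
  toFun := emb
  map_one' := emb_one
  map_mul' := emb_mul

theorem tr_add (x y : Fin 2 → F) : tr (x + y) = tr x * tr y := by
  apply eq_of_blk_col
  · rw [map_mul, blk_tr, blk_tr, blk_tr, mul_one]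
  · rw [col_mul, col_tr, col_tr, col_tr, blk_tr, mv_one]

theorem tr_zero : tr (0 : Fin 2 → F) = 1 := by
  apply eq_of_blk_col
  · rw [map_one, blk_tr]
  · rw [col_tr, col_one]

theorem emb_tr_conj (A : SL F) (x : Fin 2 → F) : emb A * tr x * (emb A)⁻¹ = tr (mv A x) := by
  apply eq_of_blk_col
  · rw [map_mul, map_mul, map_inv, blk_tr, blk_tr, mul_one, mul_inv_cancel]
  · rw [col_conj' (emb A) (tr x) (tr_mem_ker x), col_tr, col_tr, blk_emb]

theorem eq_tr_mul_emb (M : QG F) : M = tr (col M) * emb (blk M) := by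
  apply eq_of_blk_col
  · rw [map_mul, blk_tr, one_mul, blk_emb]
  · rw [col_mul, col_tr, col_emb, mv_zero, add_zero]

end Cfsg.Agent.Lib.Helper11.Qd
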