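import Mathlib
import Cfsg.Agent.Lib.Helper11.Qd.ExtractA
import Cfsg.Agent.Lib.Helper35.GenInternal

set_option autoImplicit false
set_option linter.unusedSectionVars false
set_option linter.style.haveILetI false

/-! Extraction of a `Qd(p)` section: the split case. -/

namespace Cfsg.Agent.Lib.Helper11.Qd

open Cfsg Cfsg.Agent.Lib.Helper46.SL2 Cfsg.Agent.Lib.Helper46.QdOver
  Cfsg.Agent.Lib.Helper46.QdSylow Cfsg.Agent.Lib.Helper88 Cfsg.Agent.Lib.Helper35.GenQuad

universe u

/-- A plane `N` with a complement `X` acting on it as `SL₂(p)` gives a `Qd(p)` section. -/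
theorem involves_qd_of_complement {Y : Type u} [Group Y] {p : ℕ} [Fact p.Prime]
    (N X : Subgroup Y) (hXN : X ≤ Subgroup.normalizer (N : Set Y)) (hNX : N ⊓ X = ⊥)
    (cd : ↥N → (Fin 2 → ZMod p)) (hcd : Function.Bijective cd)
    (hcdmul : ∀ n m : ↥N, cd (n * m) = cd n + cd m)
    (σ : ↥X →* SL (ZMod p)) (hσ : Function.Surjective σ)
    (hcompat : ∀ (x : ↥X) (n : ↥N), cd (conjOn N X hXN x n) = mv (σ x) (cd n)) :
    Involves ↥(Cfsg.qd p) Y := by
  have hcd1 : cd 1 = 0 := by
    have h := hcdmul 1 1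
    rw [mul_one] at h
    have h2 : cd 1 + 0 = cd 1 + cd 1 := by rw [add_zero]; exact h
    exact (add_left_cancel h2).symm
  let f₁ : ↥N →* QG (ZMod p) :=
    { toFun := fun n => tr (cd n)
      map_one' := by rw [hcd1, tr_zero]
      map_mul' := fun n m => by rw [hcdmul, tr_add] }
  let f₂ : ↥X →* QG (ZMod p) := embHom.comp σ
  have hc : ∀ x : ↥X, f₁.comp (conjOn N X hXN x).toMonoidHom =
      (MulAut.conj (f₂ x)).toMonoidHom.comp f₁ := by
    intro x
    apply MonoidHom.ext
    intro n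
    show tr (cd (conjOn N X hXN x n)) = emb (σ x) * tr (cd n) * (emb (σ x))⁻¹
    rw [hcompat, emb_tr_conj]
  let f : ↥N ⋊[conjOn N X hXN] ↥X →* QG (ZMod p) := SemidirectProduct.lift f₁ f₂ hc
  have hc' : ∀ x : ↥X, N.subtype.comp (conjOn N X hXN x).toMonoidHom =
      (MulAut.conj (X.subtype x)).toMonoidHom.comp N.subtype := by
    intro x
    apply MonoidHom.ext
    intro n
    show ((conjOn N X hXN x n : ↥N) : Y) = (x : Y) * n * (x : Y)⁻¹
    rw [conjOn_apply]
  let i : ↥N ⋊[conjOn N X hXN] ↥X →* Y := SemidirectProduct.lift N.subtype X.subtype hc'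
  have hi : Function.Injective i := by
    rw [injective_iff_map_eq_one]
    intro a ha
    have h1 : (a.left : Y) * (a.right : Y) = 1 := ha
    have h2 : (a.left : Y) = ((a.right : Y))⁻¹ := eq_inv_of_mul_eq_one_left h1
    have h3 : (a.left : Y) ∈ N ⊓ X := ⟨a.left.2, by rw [h2]; exact X.inv_mem a.right.2⟩
    rw [hNX, Subgroup.mem_bot] at h3
    have h4 : (a.right : Y) = 1 := by rw [h3, one_mul] at h1; exact h1
    apply SemidirectProduct.ext
    · exact Subtype.ext h3
    · exact Subtype.ext h4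
  have hf : Function.Surjective f := by
    intro M
    obtain ⟨n, hn⟩ := hcd.2 (col M)
    obtain ⟨x, hx⟩ := hσ (blk M)
    refine ⟨⟨n, x⟩, ?_⟩
    show tr (cd n) * emb (σ x) = M
    rw [hn, hx]
    exact (eq_tr_mul_emb M).symm
  exact involves_of_spans ⟨_, inferInstance, i, f, hi, hf⟩

end Cfsg.Agent.Lib.Helper11.Qd
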