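import Mathlib
import Cfsg.Agent.Lib.Helper11.Qd.ExtractB

set_option autoImplicit false
set_option linter.unusedSectionVars false
set_option linter.style.haveILetI false

/-! Extraction of a `Qd(p)` section: the general case, by a Frattini argument. -/

namespace Cfsg.Agent.Lib.Helper11.Qd

open Cfsg Cfsg.Agent.Lib.Helper46.SL2 Cfsg.Agent.Lib.Helper46.QdOver
  Cfsg.Agent.Lib.Helper46.QdSylow Cfsg.Agent.Lib.Helper88 Cfsg.Agent.Lib.Helper35.GenQuad

universe u

variable {F : Type*} [Field F]

/-- the central element `-1` of `SL₂` -/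
def negOne (F : Type*) [Field F] : SL F := ⟨!![-1, 0; 0, -1], by simp [Matrix.det_fin_two]⟩

theorem mv_negOne (w : Fin 2 → F) : mv (negOne F) w = -w := by
  apply vec2_ext
  · rw [mv_apply_zero]; simp [negOne]
  · rw [mv_apply_one]; simp [negOne]

theorem negOne_mul_self : negOne F * negOne F = 1 := by
  apply ext_mv
  intro w
  rw [mv_mul, mv_negOne, mv_negOne, neg_neg, mv_one]

theorem negOne_comm (A : SL F) : negOne F * A = A * negOne F := by
  apply ext_mv
  intro w
  rw [mv_mul, mv_mul, mv_negOne, mv_negOne, mv_neg]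

theorem negOne_pow_odd {m : ℕ} (hm : Odd m) : negOne F ^ m = negOne F := by
  obtain ⟨k, rfl⟩ := hm
  rw [pow_succ, pow_mul, pow_two, negOne_mul_self, one_pow, one_mul]

theorem zpowers_negOne_comm (A B : SL F) (hB : B ∈ Subgroup.zpowers (negOne F)) : B * A = A * B := by
  obtain ⟨k, rfl⟩ := Subgroup.mem_zpowers_iff.mp hB
  exact ((Commute.zpow_left (negOne_comm A) k)).eq

theorem mem_zpowers_negOne {B : SL F} (hB : B ∈ Subgroup.zpowers (negOne F)) :
    B = 1 ∨ B = negOne F := by
  obtain ⟨k, rfl⟩ := Subgroup.mem_zpowers_iff.mp hB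
  rcases Int.even_or_odd k with ⟨j, rfl⟩ | ⟨j, rfl⟩
  · left
    rw [← two_mul, zpow_mul, zpow_two, negOne_mul_self, one_zpow]
  · right
    rw [zpow_add, zpow_mul, zpow_two, negOne_mul_self, one_zpow, one_mul, zpow_one]

end Cfsg.Agent.Lib.Helper11.Qd
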