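import Mathlib
import Cfsg.Agent.Lib.Helper11.Qd.ExtractC

set_option autoImplicit false
set_option linter.unusedSectionVars false
set_option linter.style.haveILetI false

/-! Extraction of a `Qd(p)` section: the general case, by a Frattini argument. -/

namespace Cfsg.Agent.Lib.Helper11.Qd

open Cfsg Cfsg.Agent.Lib.Helper46.SL2 Cfsg.Agent.Lib.Helper46.QdOver
  Cfsg.Agent.Lib.Helper46.QdSylow Cfsg.Agent.Lib.Helper88 Cfsg.Agent.Lib.Helper35.GenQuad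

universe u

/-- A plane `N` normalized by a subgroup `X` acting on it as `SL₂(p)` gives a `Qd(p)` section. -/
theorem involves_qd_of_plane {Y : Type u} [Group Y] [Finite Y] {p : ℕ} [Fact p.Prime] (hp2 : p ≠ 2)
    (N X : Subgroup Y) (hXN : X ≤ Subgroup.normalizer (N : Set Y))
    (cd : ↥N → (Fin 2 → ZMod p)) (hcd : Function.Bijective cd)
    (hcdmul : ∀ n m : ↥N, cd (n * m) = cd n + cd m)
    (σ : ↥X →* SL (ZMod p)) (hσ : Function.Surjective σ)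
    (hcompat : ∀ (x : ↥X) (n : ↥N), cd (conjOn N X hXN x n) = mv (σ x) (cd n)) :
    Involves ↥(Cfsg.qd p) Y := by
  haveI : Fact (Nat.Prime 2) := ⟨Nat.prime_two⟩
  have hcd1 : cd 1 = 0 := by
    have h := hcdmul 1 1
    rw [mul_one] at h
    have h2 : cd 1 + 0 = cd 1 + cd 1 := by rw [add_zero]; exact h
    exact (add_left_cancel h2).symm
  have hcdinv : ∀ n : ↥N, cd n⁻¹ = -cd n := by
    intro n
    have h := hcdmul n n⁻¹
    rw [mul_inv_cancel, hcd1] at h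
    exact (neg_eq_of_add_eq_zero_right h.symm).symm
  have hcdpow : ∀ (n : ↥N) (k : ℕ), cd (n ^ k) = k • cd n := by
    intro n k
    induction k with
    | zero => rw [pow_zero, hcd1, zero_smul]
    | succ k ih => rw [pow_succ, hcdmul, ih, succ_nsmul]
  have hNp : ∀ n : ↥N, n ^ p = 1 := by
    intro n
    apply hcd.1
    rw [hcdpow, hcd1]
    funext i
    rw [Pi.smul_apply, Pi.zero_apply, nsmul_eq_mul, CharP.cast_eq_zero, zero_mul]
  -- the preimage of the centre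
  let C₂ : Subgroup ↥X := (Subgroup.zpowers (negOne (ZMod p))).comap σ
  have hC₂n : C₂.Normal := by
    constructor
    intro x hx g
    show σ (g * x * g⁻¹) ∈ Subgroup.zpowers (negOne (ZMod p))
    have hx' : σ x ∈ Subgroup.zpowers (negOne (ZMod p)) := hx
    rw [map_mul, map_mul, map_inv, ← zpowers_negOne_comm (σ g) (σ x) hx', mul_assoc,
      mul_inv_cancel, mul_one]
    exact hx'
  -- a `2`-element mapping to `-1`
  obtain ⟨z₀, hz₀⟩ := hσ (negOne (ZMod p))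
  obtain ⟨k, m, hm, hkm⟩ := Nat.exists_eq_two_pow_mul_odd (orderOf_pos z₀).ne'
  obtain ⟨z₁, hz₁⟩ : ∃ z₁ : ↥X, z₁ = z₀ ^ m := ⟨_, rfl⟩
  have hσz₁ : σ z₁ = negOne (ZMod p) := by rw [hz₁, map_pow, hz₀, negOne_pow_odd hm]
  have hz₁2 : z₁ ^ (2 ^ k) = 1 := by
    rw [hz₁, ← pow_mul, mul_comm, ← hkm, pow_orderOf_eq_one]
  have hz₁C : z₁ ∈ C₂ := by
    show σ z₁ ∈ Subgroup.zpowers (negOne (ZMod p))
    rw [hσz₁]; exact Subgroup.mem_zpowers _
  have hzp : IsPGroup 2 ↥(Subgroup.zpowers (⟨z₁, hz₁C⟩ : ↥C₂)) := by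
    rintro ⟨w, hw⟩
    obtain ⟨j, rfl⟩ := Subgroup.mem_zpowers_iff.mp hw
    refine ⟨k, ?_⟩
    apply Subtype.ext
    rw [Subgroup.coe_pow, Subgroup.coe_one, ← zpow_natCast, ← zpow_mul, mul_comm, zpow_mul,
      zpow_natCast]
    have : (⟨z₁, hz₁C⟩ : ↥C₂) ^ (2 ^ k) = 1 := Subtype.ext (by
      rw [Subgroup.coe_pow, Subgroup.coe_one]; exact hz₁2)
    rw [this, one_zpow]
  obtain ⟨T, hT⟩ := hzp.exists_le_sylow
  obtain ⟨T', hT'⟩ : ∃ T' : Subgroup ↥X, T' = (T : Subgroup ↥C₂).map C₂.subtype := ⟨_, rfl⟩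
  have hz₁T : z₁ ∈ T' := by
    rw [hT']
    exact ⟨⟨z₁, hz₁C⟩, hT (Subgroup.mem_zpowers _), rfl⟩
  have hT'2 : IsPGroup 2 ↥T' := by
    rw [hT']
    exact T.2.map _
  have hfrat : Subgroup.normalizer (T' : Set ↥X) ⊔ C₂ = ⊤ := by
    rw [hT']
    exact Sylow.normalizer_sup_eq_top T
  -- the complement
  obtain ⟨X₃, hX₃⟩ : ∃ X₃ : Subgroup Y, X₃ = (Subgroup.normalizer (T' : Set ↥X)).map X.subtype := ⟨_, rfl⟩
  have hX₃X : X₃ ≤ X := by
    rw [hX₃]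
    rintro _ ⟨x, -, rfl⟩
    exact x.2
  have hmemX₃ : ∀ x : ↥X, (x : Y) ∈ X₃ ↔ x ∈ Subgroup.normalizer (T' : Set ↥X) := by
    intro x
    rw [hX₃]
    constructor
    · rintro ⟨x', hx', hxx⟩
      have : x' = x := Subtype.ext hxx
      rwa [this] at hx'
    · intro hx
      exact ⟨x, hx, rfl⟩
  have hX₃N : X₃ ≤ Subgroup.normalizer (N : Set Y) := hX₃X.trans hXN
  let σ₃ : ↥X₃ →* SL (ZMod p) := σ.comp (Subgroup.inclusion hX₃X)
  have hσ₃ : Function.Surjective σ₃ := by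
    intro s
    obtain ⟨x, hx⟩ := hσ s
    have hxtop : x ∈ Subgroup.normalizer (T' : Set ↥X) ⊔ C₂ := by rw [hfrat]; exact Subgroup.mem_top x
    obtain ⟨y, hy, c, hc, hyc⟩ := Subgroup.mem_sup_of_normal_right.mp hxtop
    have hσc : σ c = 1 ∨ σ c = negOne (ZMod p) := mem_zpowers_negOne hc
    rcases hσc with h1 | h1
    · refine ⟨⟨(y : Y), (hmemX₃ y).mpr hy⟩, ?_⟩
      show σ (Subgroup.inclusion hX₃X ⟨(y : Y), _⟩) = s
      have : Subgroup.inclusion hX₃X ⟨(y : Y), (hmemX₃ y).mpr hy⟩ = y := Subtype.ext rfl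
      rw [this, ← hx, ← hyc, map_mul, h1, mul_one]
    · have hyz : y * z₁ ∈ Subgroup.normalizer (T' : Set ↥X) :=
        Subgroup.mul_mem _ hy (Subgroup.le_normalizer hz₁T)
      refine ⟨⟨((y * z₁ : ↥X) : Y), (hmemX₃ _).mpr hyz⟩, ?_⟩
      show σ (Subgroup.inclusion hX₃X ⟨((y * z₁ : ↥X) : Y), _⟩) = s
      have : Subgroup.inclusion hX₃X ⟨((y * z₁ : ↥X) : Y), (hmemX₃ _).mpr hyz⟩ = y * z₁ :=
        Subtype.ext rfl
      rw [this, ← hx, ← hyc, map_mul, map_mul, h1, hσz₁]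
  have hcompat₃ : ∀ (x : ↥X₃) (n : ↥N), cd (conjOn N X₃ hX₃N x n) = mv (σ₃ x) (cd n) := by
    intro x n
    have : conjOn N X₃ hX₃N x n = conjOn N X hXN (Subgroup.inclusion hX₃X x) n := by
      apply Subtype.ext
      rw [conjOn_apply, conjOn_apply]
      rfl
    rw [this, hcompat]
    rfl
  -- trivial intersection
  have hNX₃ : N ⊓ X₃ = ⊥ := by
    rw [eq_bot_iff]
    rintro n ⟨hnN, hnX₃⟩
    rw [Subgroup.mem_bot]
    have hnX : n ∈ X := hX₃X hnX₃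
    have hnorm : (⟨n, hnX⟩ : ↥X) ∈ Subgroup.normalizer (T' : Set ↥X) := (hmemX₃ ⟨n, hnX⟩).mp hnX₃
    have hc1 : (⟨n, hnX⟩ : ↥X) * z₁ * (⟨n, hnX⟩ : ↥X)⁻¹ ∈ T' :=
      (Subgroup.mem_normalizer_iff.mp hnorm z₁).mp hz₁T
    have hc2 : (⟨n, hnX⟩ : ↥X) * z₁ * (⟨n, hnX⟩ : ↥X)⁻¹ * z₁⁻¹ ∈ T' :=
      T'.mul_mem hc1 (T'.inv_mem hz₁T)
    obtain ⟨j, hj⟩ := hT'2 ⟨_, hc2⟩
    have hj' : (n * (z₁ : Y) * n⁻¹ * (z₁ : Y)⁻¹) ^ (2 ^ j) = 1 := by
      have := congrArg (fun w : ↥T' => ((w : ↥X) : Y)) hj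
      simp only [Subgroup.coe_pow, Subgroup.coe_mul, Subgroup.coe_inv, Subgroup.coe_one] at this
      exact this
    -- `z₁ n⁻¹ z₁⁻¹ = n`
    have hconj : (z₁ : Y) * n⁻¹ * (z₁ : Y)⁻¹ = n := by
      have h1 := hcompat z₁ (⟨n, hnN⟩ : ↥N)⁻¹
      rw [hσz₁, mv_negOne, hcdinv, neg_neg] at h1
      have h2 := hcd.1 h1
      have h3 := congrArg Subtype.val h2
      rw [conjOn_apply] at h3
      simpa using h3
    have hnn : n * (z₁ : Y) * n⁻¹ * (z₁ : Y)⁻¹ = n * n := by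
      have : n * (z₁ : Y) * n⁻¹ * (z₁ : Y)⁻¹ = n * ((z₁ : Y) * n⁻¹ * (z₁ : Y)⁻¹) := by group
      rw [this, hconj]
    rw [hnn] at hj'
    have hn1 : n ^ (2 ^ (j + 1)) = 1 := by
      rw [pow_succ, mul_comm, pow_mul, pow_two]
      exact hj'
    have hn2 : n ^ p = 1 := by
      have := congrArg Subtype.val (hNp ⟨n, hnN⟩)
      simpa using this
    have hd1 : orderOf n ∣ 2 ^ (j + 1) := orderOf_dvd_of_pow_eq_one hn1
    have hd2 : orderOf n ∣ p := orderOf_dvd_of_pow_eq_one hn2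
    have hcop : Nat.Coprime (2 ^ (j + 1)) p := by
      apply Nat.Coprime.pow_left
      rw [Nat.coprime_primes Nat.prime_two Fact.out]
      exact fun h => hp2 h.symm
    have : orderOf n = 1 := Nat.eq_one_of_dvd_coprimes hcop hd1 hd2
    exact orderOf_eq_one_iff.mp this
  exact involves_qd_of_complement N X₃ hX₃N hNX₃ cd hcd hcdmul σ₃ hσ₃ hcompat₃

end Cfsg.Agent.Lib.Helper11.Qd
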