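import Mathlib
import Cfsg.Agent.Lib.Helper11.Qd.ExtractD

set_option autoImplicit false
set_option linter.unusedSectionVars false
set_option linter.style.haveILetI false

/-! Extraction of a `Qd(p)` section from an embedded plane. -/

namespace Cfsg.Agent.Lib.Helper11.Qd

open Cfsg Cfsg.Agent.Lib.Helper46.SL2 Cfsg.Agent.Lib.Helper46.QdOver
  Cfsg.Agent.Lib.Helper46.QdSylow Cfsg.Agent.Lib.Helper88 Cfsg.Agent.Lib.Helper35.GenQuad

universe u

theorem involves_qd_of_embedded_plane {Y : Type u} [Group Y] [Finite Y] {p : ℕ} [Fact p.Prime]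
    (hp2 : p ≠ 2) (e : Multiplicative (Fin 2 → ZMod p) →* Y) (he : Function.Injective e)
    (X : Subgroup Y) (σ : ↥X →* SL (ZMod p)) (hσ : Function.Surjective σ)
    (hcompat : ∀ (x : ↥X) (s : Fin 2 → ZMod p),
      (x : Y) * e (Multiplicative.ofAdd s) * (x : Y)⁻¹ = e (Multiplicative.ofAdd (mv (σ x) s))) :
    Involves ↥(Cfsg.qd p) Y := by
  obtain ⟨N, hN⟩ : ∃ N : Subgroup Y, N = e.range := ⟨_, rfl⟩
  have hconj : ∀ x ∈ X, ∀ n ∈ N, x * n * x⁻¹ ∈ N := by
    intro x hx n hn
    rw [hN] at hn ⊢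
    obtain ⟨t, rfl⟩ := hn
    have := hcompat ⟨x, hx⟩ (Multiplicative.toAdd t)
    rw [ofAdd_toAdd] at this
    exact ⟨_, this.symm⟩
  have hXN : X ≤ Subgroup.normalizer (N : Set Y) := by
    intro x hx
    rw [Subgroup.mem_normalizer_iff]
    intro n
    constructor
    · exact hconj x hx n
    · intro h
      have := hconj x⁻¹ (X.inv_mem hx) _ h
      have e1 : x⁻¹ * (x * n * x⁻¹) * x⁻¹⁻¹ = n := by group
      rwa [e1] at this
  let E : Multiplicative (Fin 2 → ZMod p) ≃* ↥e.range := MonoidHom.ofInjective he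
  have hEval : ∀ t, ((E t : ↥e.range) : Y) = e t := fun t => rfl
  have key : ∀ N' : Subgroup Y, N' = e.range → X ≤ Subgroup.normalizer (N' : Set Y) →
      Involves ↥(Cfsg.qd p) Y := by
    intro N' hN' hXN'
    subst hN'
    let cd : ↥e.range → (Fin 2 → ZMod p) := fun n => Multiplicative.toAdd (E.symm n)
    have hcdb : Function.Bijective cd :=
      Multiplicative.toAdd.bijective.comp E.symm.bijective
    have hcdmul : ∀ n m : ↥e.range, cd (n * m) = cd n + cd m := by
      intro n m
      show Multiplicative.toAdd (E.symm (n * m)) = _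
      rw [map_mul, toAdd_mul]
    apply involves_qd_of_plane hp2 e.range X hXN' cd hcdb hcdmul σ hσ
    intro x n
    obtain ⟨s, hs⟩ : ∃ s, s = cd n := ⟨_, rfl⟩
    have hn : n = E (Multiplicative.ofAdd s) := by
      rw [hs]
      show n = E (Multiplicative.ofAdd (Multiplicative.toAdd (E.symm n)))
      rw [ofAdd_toAdd, MulEquiv.apply_symm_apply]
    rw [← hs]
    have h1 : conjOn e.range X hXN' x n = E (Multiplicative.ofAdd (mv (σ x) s)) := by
      apply Subtype.ext
      rw [conjOn_apply, hEval, ← hcompat, hn, hEval]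
    rw [h1]
    show Multiplicative.toAdd (E.symm (E (Multiplicative.ofAdd (mv (σ x) s)))) = _
    rw [MulEquiv.symm_apply_apply, toAdd_ofAdd]
  exact key N hN hXN

end Cfsg.Agent.Lib.Helper11.Qd
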