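import Mathlib
import Cfsg.Agent.Lib.Helper11.Qd.RepFull
import Cfsg.Agent.Lib.Helper11.Qd.Descent

set_option autoImplicit false
set_option linter.unusedSectionVars false
set_option linter.style.haveILetI false

/-! Two quadratic generators: either a `p`-group or an invariant plane over the prime field. -/

namespace Cfsg.Agent.Lib.Helper11.Qd

open Module Matrix Cfsg.Agent.Lib.Helper35.QuadCore Cfsg.Agent.Lib.Helper35.GenQuad
  Cfsg.Agent.Lib.Helper35.QuadAlg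

universe u v w

/-- a pair of elements acting as transvections with invariant in the prime field -/
def GoodPair (p : ℕ) {H : Type u} [Group H] {K : Type v} [Field K]
    (φ : H →* Matrix (Fin 2) (Fin 2) K) : Prop :=
  ∃ (c₁ c₂ : H) (s : Fin 2 → K) (m : ℤ), s ≠ 0 ∧ ((m : ZMod p) ≠ 0) ∧ (φ c₁ - 1) *ᵥ s = 0 ∧
    (φ c₁ - 1) *ᵥ ((φ c₂ - 1) *ᵥ s) = (m : K) • s ∧ (φ c₂ - 1) *ᵥ ((φ c₂ - 1) *ᵥ s) = 0

theorem gen_module_plane {p : ℕ} [Fact p.Prime] {W : Type w} [AddCommGroup W]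
    [Module (ZMod p) W] [Finite W] {H : Type u} [Group H]
    (θ : H →* Module.End (ZMod p) W) (a b : H) (hgen : Subgroup.closure {a, b} = ⊤)
    (ha : (θ a - 1) * (θ a - 1) = 0) (hb : (θ b - 1) * (θ b - 1) = 0)
    (hgp : ∀ φ : H →* Matrix (Fin 2) (Fin 2) (AlgebraicClosure (ZMod p)),
      (∀ g, (φ g).det = 1) → ∀ l : AlgebraicClosure (ZMod p), l ≠ 0 → φ a = !![1, l; 0, 1] →
        φ b = !![1, 0; 1, 1] → GoodPair p φ) :
    (∃ k : ℕ, ∀ d : H, (θ d - 1) ^ k = 0) ∨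
      ∃ (c₁ c₂ : H) (m : ℤ) (u₀ : W), (m : ZMod p) ≠ 0 ∧ u₀ ≠ 0 ∧ (θ c₁ - 1) u₀ = 0 ∧
        (θ c₁ - 1) ((θ c₂ - 1) u₀) = (m : ZMod p) • u₀ ∧ (θ c₂ - 1) ((θ c₂ - 1) u₀) = 0 := by
  classical
  let F := ZMod p
  let K := AlgebraicClosure F
  have : Module.Finite F W := Module.Finite.of_finite
  let ι := Module.Free.ChooseBasisIndex F W
  let bs : Basis ι F W := Module.Free.chooseBasis F W
  let e₁ : Module.End F W ≃ₐ[F] Matrix ι ι F := LinearMap.toMatrixAlgEquiv bs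
  let e₂ : Matrix ι ι F →+* Matrix ι ι K := (algebraMap F K).mapMatrix
  let e₃ : Matrix ι ι K ≃ₐ[K] Module.End K (ι → K) := Matrix.toLinAlgEquiv'
  let Ψ : Module.End F W →+* Module.End K (ι → K) :=
    (e₃.toRingEquiv.toRingHom).comp (e₂.comp e₁.toRingEquiv.toRingHom)
  have hΨ : Function.Injective Ψ := by
    have h2 : Function.Injective e₂ := by
      intro M M' h
      ext i j
      have := congrFun (congrFun h i) j
      simp only [e₂, RingHom.mapMatrix_apply, Matrix.map_apply] at this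
      exact (algebraMap F K).injective this
    exact e₃.injective.comp (h2.comp e₁.injective)
  let ρ : H →* Module.End K (ι → K) := (Ψ : Module.End F W →* Module.End K (ι → K)).comp θ
  have hρ : ∀ g, ρ g = Ψ (θ g) := fun g => rfl
  have ha' : (ρ a - 1) * (ρ a - 1) = 0 := by
    rw [hρ, ← map_one Ψ, ← map_sub, ← map_mul, ha, map_zero]
  have hb' : (ρ b - 1) * (ρ b - 1) = 0 := by
    rw [hρ, ← map_one Ψ, ← map_sub, ← map_mul, hb, map_zero]
  obtain ⟨A, hA⟩ : ∃ A, A = ρ a - 1 := ⟨_, rfl⟩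
  obtain ⟨B, hB⟩ : ∃ B, B = ρ b - 1 := ⟨_, rfl⟩
  have hρa : ρ a = 1 + A := by rw [hA]; abel
  have hρb : ρ b = 1 + B := by rw [hB]; abel
  rw [← hA] at ha'
  rw [← hB] at hb'
  by_cases hZ : zEl A B ^ finrank K (ι → K) = 0
  · left
    obtain ⟨h1, h2⟩ := mul_pow_eq_zero_of_zEl A B ha' hb' _ hZ
    obtain ⟨k, hk⟩ := chain_eq_bot A B ha' hb' _ h1 h2
    have hk' := sub_one_pow_eq_zero ρ a b hgen A B hρa hρb ha' hb' k hk
    refine ⟨k, fun d => ?_⟩
    apply hΨ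
    rw [map_pow, map_sub, map_one, map_zero, ← hρ]
    exact hk' d
  · right
    obtain ⟨l, u, hl, hu, hAu, hABu⟩ := exists_eigen_of_not_nilpotent A B ha' hZ
    obtain ⟨w, hw⟩ : ∃ w, w = B u := ⟨_, rfl⟩
    rw [← hw] at hABu
    have hBw : B w = 0 := by
      have := congrArg (fun f : Module.End K (ι → K) => f u) hb'
      rw [hw]
      simpa using this
    obtain ⟨φ, hdet, hRep, hφa, hφb⟩ :=
      exists_rep2_full ρ a b hgen A B hρa hρb l u w hl hu hAu hw.symm hABu hBw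
    obtain ⟨c₁, c₂, s, m, hs, hm, hs1, hs2, hs3⟩ := hgp φ hdet l hl hφa hφb
    have hinj := iota_injective (K := K) A u w l hl hu hAu hABu
    obtain ⟨x, hx⟩ : ∃ x : ι → K, x = iota u w s := ⟨_, rfl⟩
    have hx0 : x ≠ 0 := by
      rw [hx]
      intro h
      apply hs
      apply hinj
      rw [h, map_zero]
    have hx1 : (ρ c₁ - 1) x = 0 := by
      rw [hx, rep_sub_one (hRep c₁), hs1, map_zero]
    have hx2 : (ρ c₁ - 1) ((ρ c₂ - 1) x) = (m : K) • x := by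
      rw [hx, rep_sub_one (hRep c₂), rep_sub_one (hRep c₁), hs2, map_smul]
    have hx3 : (ρ c₂ - 1) ((ρ c₂ - 1) x) = 0 := by
      rw [hx, rep_sub_one (hRep c₂), rep_sub_one (hRep c₂), hs3, map_zero]
    obtain ⟨T₁, hT₁⟩ : ∃ T₁ : Module.End F W, T₁ = θ c₁ - 1 := ⟨_, rfl⟩
    obtain ⟨T₂, hT₂⟩ : ∃ T₂ : Module.End F W,
        T₂ = (θ c₁ - 1) * (θ c₂ - 1) - ((m : ℤ) : Module.End F W) := ⟨_, rfl⟩
    obtain ⟨T₃, hT₃⟩ : ∃ T₃ : Module.End F W, T₃ = (θ c₂ - 1) * (θ c₂ - 1) := ⟨_, rfl⟩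
    have hΨ1 : Ψ T₁ x = 0 := by
      rw [hT₁, map_sub, map_one, ← hρ]; exact hx1
    have hΨ2 : Ψ T₂ x = 0 := by
      rw [hT₂, map_sub, map_mul, map_sub, map_sub, map_one, map_intCast, ← hρ, ← hρ,
        LinearMap.sub_apply, Module.End.mul_apply, hx2, Module.End.intCast_apply,
        Int.cast_smul_eq_zsmul, sub_self]
    have hΨ3 : Ψ T₃ x = 0 := by
      rw [hT₃, map_mul, map_sub, map_one, ← hρ, Module.End.mul_apply]; exact hx3
    by_contra hcon
    push Not at hcon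
    apply hx0
    apply common_ker_descent Ψ T₁ T₂ T₃ _ x hΨ1 hΨ2 hΨ3
    intro v hv1 hv2 hv3
    by_contra hv0
    apply hcon c₁ c₂ m v hm hv0
    · rw [← hT₁]; exact hv1
    · rw [hT₂, LinearMap.sub_apply, Module.End.mul_apply, Module.End.intCast_apply,
        sub_eq_zero] at hv2
      rw [hv2, Int.cast_smul_eq_zsmul]
    · rw [hT₃, Module.End.mul_apply] at hv3
      exact hv3

end Cfsg.Agent.Lib.Helper11.Qd
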