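import Mathlib
import Cfsg.Agent.Lib.Helper11.Qd.PlaneA
import Cfsg.Agent.Lib.Helper11.Dickson.InvGe5

set_option autoImplicit false
set_option linter.unusedSectionVars false
set_option linter.style.haveILetI false

/-! Good pairs for `p ≥ 5`, from the Dickson-type lemma. -/

namespace Cfsg.Agent.Lib.Helper11.Qd

open Matrix Matrix.GeneralLinearGroup Cfsg Cfsg.Agent.Lib.Helper11.Dickson
open scoped MatrixGroups

universe u v

/-- for `p ≥ 5` some element acts as `[[1,1],[0,1]]` -/
theorem exists_upper_one {H : Type u} [Group H] [Finite H] {K : Type v} [Field K] (p : ℕ)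
    [Fact p.Prime] [CharP K p] (hp2 : p ≠ 2) (hp3 : p ≠ 3)
    (φ : H →* Matrix (Fin 2) (Fin 2) K) (hdet : ∀ g, (φ g).det = 1) (a b : H) (l : K)
    (hl : l ≠ 0) (hφa : φ a = !![1, l; 0, 1]) (hφb : φ b = !![1, 0; 1, 1]) :
    ∃ c : H, φ c = !![1, 1; 0, 1] := by
  classical
  obtain ⟨f, hf⟩ : ∃ f : K →+* AlgebraicClosure K, f = algebraMap K (AlgebraicClosure K) := ⟨_, rfl⟩
  haveI : CharP (AlgebraicClosure K) p := charP_of_injective_algebraMap
    (algebraMap K (AlgebraicClosure K)).injective p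
  obtain ⟨φb, hφb'⟩ : ∃ φb : H →* Matrix (Fin 2) (Fin 2) (AlgebraicClosure K),
      φb = (f.mapMatrix (m := Fin 2)).toMonoidHom.comp φ :=
    ⟨_, rfl⟩
  obtain ⟨φ', hφ'⟩ : ∃ φ' : H →* GL (Fin 2) (AlgebraicClosure K), φ' = φb.toHomUnits := ⟨_, rfl⟩
  have hval : ∀ h : H, (φ' h).val = (φ h).map f := by
    intro h
    rw [hφ', hφb']
    rfl
  haveI : Finite ↥φ'.range := by
    apply Finite.of_surjective φ'.rangeRestrict
    exact φ'.rangeRestrict_surjective
  have hdet' : ∀ g ∈ φ'.range, g.val.det = 1 := by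
    rintro _ ⟨h, rfl⟩
    rw [hval]
    have := RingHom.map_det f (φ h)
    rw [hdet h, map_one] at this
    rw [RingHom.mapMatrix_apply] at this
    exact this.symm
  have hfinj : Function.Injective f := by rw [hf]; exact (algebraMap K (AlgebraicClosure K)).injective
  have hfl : f l ≠ 0 := by
    intro h
    apply hl
    exact hfinj (by rw [h, map_zero])
  have hU : upperRightHom (f l) ∈ φ'.range := by
    refine ⟨a, ?_⟩
    apply Units.ext
    rw [hval, hφa]
    ext i j
    fin_cases i <;> fin_cases j <;> simp [upperRightHom]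
  have hL1 : tL (1 : AlgebraicClosure K) ∈ φ'.range := by
    refine ⟨b, ?_⟩
    apply Units.ext
    rw [hval, hφb]
    ext i j
    fin_cases i <;> fin_cases j <;> simp [tL]
  obtain ⟨c, hc⟩ := upper_one_mem p hp2 hp3 hdet' hfl hU hL1
  refine ⟨c, ?_⟩
  have h1 : (φ c).map f = (upperRightHom (1 : AlgebraicClosure K)).val := by
    rw [← hval, hc]
  ext i j
  apply hfinj
  have h2 := congrFun (congrFun h1 i) j
  rw [Matrix.map_apply] at h2
  rw [h2]
  fin_cases i <;> fin_cases j <;> simp [upperRightHom]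

theorem goodPair_ge5 {H : Type u} [Group H] [Finite H] {K : Type v} [Field K] (p : ℕ)
    [Fact p.Prime] [CharP K p] (hp2 : p ≠ 2) (hp3 : p ≠ 3)
    (φ : H →* Matrix (Fin 2) (Fin 2) K) (hdet : ∀ g, (φ g).det = 1) (a b : H) (l : K)
    (hl : l ≠ 0) (hφa : φ a = !![1, l; 0, 1]) (hφb : φ b = !![1, 0; 1, 1]) :
    GoodPair p φ := by
  obtain ⟨c, hc⟩ := exists_upper_one p hp2 hp3 φ hdet a b l hl hφa hφb
  refine ⟨c, b, ![1, 0], 1, ?_, ?_, ?_, ?_, ?_⟩
  · intro h
    have := congrFun h 0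
    simp at this
  · rw [Int.cast_one]
    exact one_ne_zero
  · rw [hc]
    funext i
    fin_cases i <;> simp [Matrix.mulVec, dotProduct, Fin.sum_univ_two]
  · rw [hc, hφb]
    funext i
    fin_cases i <;> simp [Matrix.mulVec, dotProduct, Fin.sum_univ_two]
  · rw [hφb]
    funext i
    fin_cases i <;> simp [Matrix.mulVec, dotProduct, Fin.sum_univ_two]

end Cfsg.Agent.Lib.Helper11.Qd
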