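import Mathlib

set_option autoImplicit false
set_option linter.unusedSectionVars false
set_option linter.style.haveILetI false

/-! Identities for `2 × 2` matrices. -/

namespace Cfsg.Agent.Lib.Helper11.Qd

open Matrix

variable {K : Type*} [Field K]

/-- Cayley–Hamilton for `2 × 2` matrices -/
theorem mat2_sq (M : Matrix (Fin 2) (Fin 2) K) : M * M = M.trace • M - M.det • (1 : Matrix (Fin 2) (Fin 2) K) := by
  ext i j
  fin_cases i <;> fin_cases j <;>
    simp [Matrix.mul_apply, Fin.sum_univ_two, Matrix.trace_fin_two, Matrix.det_fin_two] <;> ring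

theorem mat2_eta (A : Matrix (Fin 2) (Fin 2) K) : A = !![A 0 0, A 0 1; A 1 0, A 1 1] := by
  ext i j
  fin_cases i <;> fin_cases j <;> rfl

/-- a square-zero `2 × 2` matrix has determinant and trace zero -/
theorem mat2_sq_zero (A : Matrix (Fin 2) (Fin 2) K) (hA : A * A = 0) : A.trace = 0 ∧ A.det = 0 := by
  have hdet : A.det = 0 := by
    have h := congrArg Matrix.det hA
    rw [Matrix.det_mul, Matrix.det_zero] at h
    exact mul_self_eq_zero.mp h
  refine ⟨?_, hdet⟩
  have h1 := mat2_sq A
  rw [hA, hdet, zero_smul, sub_zero] at h1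
  by_contra ht
  have hA0 : A = 0 := by
    have := h1.symm
    rcases smul_eq_zero.mp this with h | h
    · exact absurd h ht
    · exact h
  apply ht
  rw [hA0, Matrix.trace_zero]

/-- `A B A = tr(A B) A` for a square-zero `2 × 2` matrix `A` -/
theorem mat2_sandwich (A B : Matrix (Fin 2) (Fin 2) K) (hA : A * A = 0) :
    A * B * A = (A * B).trace • A := by
  obtain ⟨ht, hd⟩ := mat2_sq_zero A hA
  rw [Matrix.trace_fin_two] at ht
  rw [Matrix.det_fin_two] at hd
  obtain ⟨a, ha⟩ : ∃ a, a = A 0 0 := ⟨_, rfl⟩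
  obtain ⟨b, hb⟩ : ∃ b, b = A 0 1 := ⟨_, rfl⟩
  obtain ⟨c, hc⟩ : ∃ c, c = A 1 0 := ⟨_, rfl⟩
  have hd' : A 1 1 = -a := by rw [ha]; linear_combination ht
  have hAeq : A = !![a, b; c, -a] := by
    rw [mat2_eta A, ← ha, ← hb, ← hc, hd']
  have h : a * a + b * c = 0 := by
    rw [hd', ← ha, ← hb, ← hc] at hd
    linear_combination -hd
  rw [hAeq, mat2_eta B]
  ext i j
  fin_cases i <;> fin_cases j <;>
    simp [Matrix.mul_apply, Fin.sum_univ_two, Matrix.trace_fin_two]
  · linear_combination (B 1 1) * h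
  · linear_combination (-(B 0 1)) * h
  · linear_combination (-(B 1 0)) * h
  · linear_combination (B 0 0) * h

/-- a unipotent `2 × 2` matrix of determinant one -/
theorem mat2_unipotent (M : Matrix (Fin 2) (Fin 2) K) (hd : M.det = 1) (ht : M.trace = 2) :
    (M - 1) * (M - 1) = 0 := by
  have h := mat2_sq M
  rw [hd, ht, one_smul] at h
  have : (M - 1) * (M - 1) = M * M - (2 : K) • M + 1 := by
    rw [sub_mul, mul_sub, mul_one, one_mul, two_smul]
    abel
  rw [this, h]
  abel

/-- an element of determinant one with square `-1` has trace zero -/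
theorem mat2_trace_of_sq_neg_one (M : Matrix (Fin 2) (Fin 2) K) (hd : M.det = 1)
    (h : M * M = -1) : M.trace = 0 := by
  have h1 := mat2_sq M
  rw [hd, one_smul, h] at h1
  have h2 : M.trace • M = 0 := by
    have : M.trace • M = (M.trace • M - 1) + 1 := by abel
    rw [this, ← h1]; simp
  rcases smul_eq_zero.mp h2 with h3 | h3
  · exact h3
  · exfalso
    rw [h3, Matrix.det_zero] at hd
    exact zero_ne_one hd

end Cfsg.Agent.Lib.Helper11.Qd
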