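import Mathlib
import Cfsg.Agent.Lib.Helper11.Qd.Mat2

set_option autoImplicit false
set_option linter.unusedSectionVars false
set_option linter.style.haveILetI false

/-! The matrix computation behind good pairs in characteristic three. -/

namespace Cfsg.Agent.Lib.Helper11.Qd

open Matrix

variable {K : Type*} [Field K]

theorem mat3_trace (I G G' : Matrix (Fin 2) (Fin 2) K) [CharP K 3]
    (hGG' : G * G' = 1) (hdG : G.det = 1)
    (hI2 : I * I = -1)
    (hanti : I * (G * I * G') = -((G * I * G') * I))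
    (n : ℕ) (hn : Odd n) (hGn : G ^ n = 1) (hcomm : Commute (G ^ 3) I) :
    G.trace = 2 := by
  have h2K : (2 : K) ≠ 0 := by
    intro h
    have h3 : ((2 : ℕ) : K) = 0 := by exact_mod_cast h
    rw [CharP.cast_eq_zero_iff K 3] at h3
    omega
  have h3K : (3 : K) = 0 := by
    have h3 : ((3 : ℕ) : K) = 0 := by rw [CharP.cast_eq_zero_iff K 3]
    exact_mod_cast h3
  obtain ⟨t, ht⟩ : ∃ t, t = G.trace := ⟨_, rfl⟩
  have hsq := mat2_sq G
  rw [hdG, one_smul, ← ht] at hsq
  have hcube : G ^ 3 = (t * t - 1) • G - t • (1 : Matrix (Fin 2) (Fin 2) K) := by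
    rw [pow_succ, pow_two, hsq, sub_mul, one_mul, smul_mul_assoc, hsq, smul_sub, smul_smul,
      sub_smul, one_smul]
    abel
  have hne : G * I ≠ I * G := by
    intro h
    have hJ : G * I * G' = I := by rw [h, mul_assoc, hGG', mul_one]
    rw [hJ, hI2] at hanti
    have : (2 : K) • (1 : Matrix (Fin 2) (Fin 2) K) = 0 := by
      rw [two_smul]
      have h1 : (1 : Matrix (Fin 2) (Fin 2) K) = - -1 := by rw [neg_neg]
      nth_rewrite 1 [h1]
      rw [← hanti]
      simp
    rcases smul_eq_zero.mp this with h | h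
    · exact h2K h
    · exact one_ne_zero h
  have ht2 : t * t - 1 = 0 := by
    by_contra hne0
    apply hne
    have h1 : G ^ 3 * I = I * G ^ 3 := hcomm.eq
    rw [hcube, sub_mul, mul_sub, smul_mul_assoc, mul_smul_comm, smul_mul_assoc, mul_smul_comm,
      one_mul, mul_one] at h1
    have h2 : (t * t - 1) • (G * I) = (t * t - 1) • (I * G) := by
      have := congrArg (fun M => M + t • I) h1
      simpa using this
    exact smul_right_injective _ hne0 h2
  have hcases : t = 1 ∨ t = -1 := by
    have : (t - 1) * (t + 1) = 0 := by linear_combination ht2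
    rcases mul_eq_zero.mp this with h | h
    · left; linear_combination h
    · right; linear_combination h
  rcases hcases with h | h
  · exfalso
    rw [ht2, zero_smul, zero_sub, h, one_smul] at hcube
    have h1 : (G ^ 3) ^ n = 1 := by rw [← pow_mul, mul_comm, pow_mul, hGn, one_pow]
    rw [hcube, hn.neg_one_pow] at h1
    have h4 : (2 : K) • (1 : Matrix (Fin 2) (Fin 2) K) = 0 := by
      rw [two_smul]
      nth_rewrite 1 [← h1]
      simp
    rcases smul_eq_zero.mp h4 with h5 | h5
    · exact h2K h5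
    · exact one_ne_zero h5
  · rw [← ht, h]
    linear_combination -h3K


theorem mat3_pair (I I' G G' : Matrix (Fin 2) (Fin 2) K) [CharP K 3]
    (hGG' : G * G' = 1) (hII' : I * I' = 1) (hdG : G.det = 1) (hdI : I.det = 1)
    (hI2 : I * I = -1)
    (hJ2 : (G * I * G') * (G * I * G') = -1)
    (hanti : I * (G * I * G') = -((G * I * G') * I))
    (h3 : G * (G * I * G') * G' = I * (G * I * G'))
    (n : ℕ) (hn : Odd n) (hGn : G ^ n = 1) (hcomm : Commute (G ^ 3) I) :
    ∃ s : Fin 2 → K, s ≠ 0 ∧ (G - 1) *ᵥ s = 0 ∧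
      (G - 1) *ᵥ ((I * G * I' - 1) *ᵥ s) = (-1 : K) • s ∧
      (I * G * I' - 1) *ᵥ ((I * G * I' - 1) *ᵥ s) = 0 := by
  have h3K : (3 : K) = 0 := by
    have h3 : ((3 : ℕ) : K) = 0 := by rw [CharP.cast_eq_zero_iff K 3]
    exact_mod_cast h3
  have htr := mat3_trace I G G' hGG' hdG hI2 hanti n hn hGn hcomm
  have hG'G : G' * G = 1 := mul_eq_one_comm.mp hGG'
  have hI'I : I' * I = 1 := mul_eq_one_comm.mp hII'
  obtain ⟨α, hα⟩ : ∃ α, α = G - 1 := ⟨_, rfl⟩
  obtain ⟨β, hβ⟩ : ∃ β, β = I * G * I' - 1 := ⟨_, rfl⟩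
  obtain ⟨J, hJ⟩ : ∃ J, J = G * I * G' := ⟨_, rfl⟩
  rw [← hJ] at hJ2 hanti h3
  have hα2 : α * α = 0 := by rw [hα]; exact mat2_unipotent G hdG htr
  have hG : G = 1 + α := by rw [hα]; abel
  have hG' : G' = 1 - α := by
    have h1 : G * (1 - α) = 1 := by
      rw [hG, add_mul, mul_sub, mul_sub, hα2]
      simp only [one_mul, mul_one, sub_zero]
      abel
    calc G' = G' * (G * (1 - α)) := by rw [h1, mul_one]
      _ = 1 - α := by rw [← mul_assoc, hG'G, one_mul]
  have hβ' : β = I * α * I' := by
    rw [hβ, hG, mul_add, mul_one, add_mul, hII']; abel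
  have hβ2 : β * β = 0 := by
    rw [hβ']
    calc I * α * I' * (I * α * I') = I * α * (I' * I) * α * I' := by simp only [mul_assoc]
      _ = 0 := by rw [hI'I, mul_one, mul_assoc I, hα2, mul_zero, zero_mul]
  have hI' : I' = -I := by
    calc I' = -(I * I) * I' := by rw [hI2, neg_neg, one_mul]
      _ = -I := by rw [neg_mul, mul_assoc, hII', mul_one]
  -- the commutator has trace zero
  have hdJ : J.det = 1 := by
    rw [hJ, Matrix.det_mul, Matrix.det_mul, hdI, mul_one, ← Matrix.det_mul, hGG', Matrix.det_one]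
  have htJ : J.trace = 0 := mat2_trace_of_sq_neg_one J hdJ hJ2
  have hcomm' : G' * I * G * I' = -J := by
    have h4 : G * (I * J) * G' = I := by
      calc G * (I * J) * G' = (G * I * G') * (G * J * G') := by
            calc G * (I * J) * G' = G * I * (G' * G) * J * G' := by
                  rw [hG'G, mul_one]; simp only [mul_assoc]
              _ = (G * I * G') * (G * J * G') := by simp only [mul_assoc]
        _ = J * (I * J) := by rw [← hJ, h3]
        _ = (J * I) * J := by rw [mul_assoc]
        _ = -(I * J) * J := by rw [hanti, neg_neg]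
        _ = I := by rw [neg_mul, mul_assoc, hJ2, mul_neg, mul_one, neg_neg]
    have h5 : G' * I * G = I * J := by
      calc G' * I * G = G' * (G * (I * J) * G') * G := by rw [h4]
        _ = (G' * G) * (I * J) * (G' * G) := by simp only [mul_assoc]
        _ = I * J := by rw [hG'G, one_mul, mul_one]
    rw [h5, hI', mul_neg, mul_assoc, ← neg_neg (J * I), ← hanti, mul_neg, neg_neg, ← mul_assoc,
      hI2, neg_mul, one_mul]
  have htα : α.trace = 0 := (mat2_sq_zero α hα2).1
  have htβ : β.trace = 0 := (mat2_sq_zero β hβ2).1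
  have htab : (α * β).trace = -1 := by
    have h6 : G' * I * G * I' = (1 - α) * (1 + β) := by
      rw [hβ, hG']
      simp only [mul_assoc]
      congr 1
      abel
    have h7 : ((1 - α) * (1 + β)).trace = 0 := by
      rw [← h6, hcomm', Matrix.trace_neg, htJ, neg_zero]
    have h8 : (1 - α) * (1 + β) = 1 - α + β - α * β := by
      rw [sub_mul, mul_add, mul_add, one_mul, mul_one, one_mul]; abel
    rw [h8, Matrix.trace_sub, Matrix.trace_add, Matrix.trace_sub, htα, htβ, Matrix.trace_one] at h7
    simp only [Fintype.card_fin, Nat.cast_ofNat] at h7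
    have h9 : (α * β).trace = 2 := by linear_combination -h7
    rw [h9]
    linear_combination h3K
  have hα0 : α ≠ 0 := by
    intro h
    rw [h, zero_mul, Matrix.trace_zero] at htab
    have : (1 : K) = 0 := by linear_combination htab
    exact one_ne_zero this
  obtain ⟨e, he⟩ : ∃ e : Fin 2 → K, α *ᵥ e ≠ 0 := by
    by_contra hcon
    push Not at hcon
    apply hα0
    ext i j
    have := congrFun (hcon (Pi.single j 1)) i
    simpa using this
  rw [← hα, ← hβ]
  refine ⟨α *ᵥ e, he, ?_, ?_, ?_⟩
  · rw [Matrix.mulVec_mulVec, hα2, Matrix.zero_mulVec]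
  · rw [Matrix.mulVec_mulVec, Matrix.mulVec_mulVec, mat2_sandwich α β hα2, htab,
      Matrix.smul_mulVec]
  · rw [Matrix.mulVec_mulVec, hβ2, Matrix.zero_mulVec]

end Cfsg.Agent.Lib.Helper11.Qd
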