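import Mathlib
import Cfsg.Agent.Lib.Helper11.Qd.PlaneA
import Cfsg.Agent.Lib.Helper11.Dickson.StabSL2

set_option autoImplicit false
set_option linter.unusedSectionVars false
set_option linter.style.haveILetI false

/-! A quadratic element outside `O_p` yields plane data. -/

namespace Cfsg.Agent.Lib.Helper11.Qd

open Module Matrix Cfsg Cfsg.Agent.Lib.Helper35.QuadCore Cfsg.Agent.Lib.Helper35.GenQuad
  Cfsg.Agent.Lib.Helper35.PStab

universe u v w

/-- good pairs exist for every two-transvection representation of a finite group -/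
def GoodPairProvider (p : ℕ) [Fact p.Prime] : Prop :=
  ∀ (H' : Type u) [Group H'] [Finite H']
    (φ : H' →* Matrix (Fin 2) (Fin 2) (AlgebraicClosure (ZMod p))),
    (∀ g, (φ g).det = 1) → ∀ (a b : H') (l : AlgebraicClosure (ZMod p)), l ≠ 0 →
      φ a = !![1, l; 0, 1] → φ b = !![1, 0; 1, 1] → GoodPair p φ

theorem quad_plane_data {p : ℕ} [Fact p.Prime] (hgp : GoodPairProvider.{u} p)
    {H : Type u} [Group H] [Finite H] {V : Type w} [CommGroup V] [Finite V]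
    (hVe : ∀ v : V, v ^ p = 1) (κ : H →* MulAut V) (hκ : Function.Injective κ) (a : H)
    (ha : ∀ v : V, κ a (κ a v * v⁻¹) = κ a v * v⁻¹) (hnO : a ∉ pCore p H) :
    ∃ (c₁ c₂ : H) (m : ℤ) (u₀ : V), (m : ZMod p) ≠ 0 ∧ u₀ ≠ 1 ∧ κ c₁ u₀ = u₀ ∧
      κ c₁ (κ c₂ u₀ * u₀⁻¹) * (κ c₂ u₀ * u₀⁻¹)⁻¹ = u₀ ^ m ∧
      κ c₂ (κ c₂ u₀ * u₀⁻¹) = κ c₂ u₀ * u₀⁻¹ := by
  obtain ⟨X₀, hX₀⟩ : ∃ X₀ : Subgroup H, X₀ = Subgroup.zpowers a := ⟨_, rfl⟩
  have hBS : ∃ g : H, ¬ IsPGroup p ↥(X₀ ⊔ X₀.map (MulAut.conj g).toMonoidHom) := by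
    by_contra hcon
    push Not at hcon
    obtain ⟨N, hNn, hNp, hXN⟩ := Cfsg.Agent.Lib.Helper91.baer_suzuki X₀ hcon
    apply hnO
    have h1 : N ≤ pCore p H := le_sSup ⟨hNn, hNp⟩
    apply h1
    apply hXN
    rw [hX₀]
    exact Subgroup.mem_zpowers _
  obtain ⟨g, hg⟩ := hBS
  obtain ⟨b, hb⟩ : ∃ b : H, b = g * a * g⁻¹ := ⟨_, rfl⟩
  obtain ⟨H₁, hH₁⟩ : ∃ H₁ : Subgroup H, H₁ = Subgroup.closure {a, b} := ⟨_, rfl⟩
  have haH₁ : a ∈ H₁ := by rw [hH₁]; exact Subgroup.subset_closure (by simp)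
  have hbH₁ : b ∈ H₁ := by rw [hH₁]; exact Subgroup.subset_closure (by simp)
  have hnp : ¬ IsPGroup p ↥H₁ := by
    intro hp
    apply hg
    apply hp.to_le
    apply sup_le
    · rw [hX₀, Subgroup.zpowers_le]; exact haH₁
    · rw [hX₀, MonoidHom.map_zpowers, Subgroup.zpowers_le]
      show (MulAut.conj g) a ∈ H₁
      rw [MulAut.conj_apply, ← hb]
      exact hbH₁
  have hb' : ∀ v : V, κ b (κ b v * v⁻¹) = κ b v * v⁻¹ := by
    intro v
    obtain ⟨w, hw⟩ : ∃ w : V, w = κ g⁻¹ v := ⟨_, rfl⟩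
    have hv : v = κ g w := by
      rw [hw, ← MulAut.mul_apply, ← map_mul, mul_inv_cancel, map_one]; rfl
    have e1 : ∀ u : V, κ b (κ g u) = κ g (κ a u) := by
      intro u
      rw [hb, ← MulAut.mul_apply, ← MulAut.mul_apply, ← map_mul, ← map_mul]
      congr 2
      group
    rw [hv, e1, ← map_inv, ← map_mul, e1, ha]
  obtain ⟨κ₁, hκ₁⟩ : ∃ κ₁ : ↥H₁ →* MulAut V, κ₁ = κ.comp H₁.subtype := ⟨_, rfl⟩
  have hκ₁a : ∀ c : ↥H₁, κ₁ c = κ (c : H) := fun c => by rw [hκ₁]; rfl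
  have instMod : Module (ZMod p) (Additive V) := AddCommGroup.zmodModule (by
    intro x
    have := hVe (Additive.toMul x)
    exact congrArg Additive.ofMul this)
  obtain ⟨θ, hθ⟩ : ∃ θ : ↥H₁ →* Module.End (ZMod p) (Additive V), θ = (autEnd p V).comp κ₁ :=
    ⟨_, rfl⟩
  have e1 : ∀ (c : ↥H₁) (w : Additive V),
      (θ c - 1) w = Additive.ofMul (κ₁ c (Additive.toMul w) * (Additive.toMul w)⁻¹) := by
    intro c w
    rw [LinearMap.sub_apply, Module.End.one_apply, hθ]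
    show autEnd p V (κ₁ c) w - w = _
    rw [autEnd_apply, ofMul_mul, ofMul_inv, ofMul_toMul, sub_eq_add_neg]
  have hquad : ∀ c : ↥H₁, (∀ v : V, κ₁ c (κ₁ c v * v⁻¹) = κ₁ c v * v⁻¹) →
      (θ c - 1) * (θ c - 1) = 0 := by
    intro c hc
    apply LinearMap.ext
    intro w
    rw [Module.End.mul_apply, e1, e1, LinearMap.zero_apply]
    simp only [toMul_ofMul]
    rw [hc, mul_inv_cancel]
    rfl
  rcases gen_module_plane θ ⟨a, haH₁⟩ ⟨b, hbH₁⟩ (closure_pair_eq_top H₁ a b hH₁ haH₁ hbH₁)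
    (hquad _ (by intro v; rw [hκ₁a]; exact ha v)) (hquad _ (by intro v; rw [hκ₁a]; exact hb' v))
    (fun φ hdet l hl h1 h2 => hgp ↥H₁ φ hdet _ _ l hl h1 h2) with ⟨k, hk⟩ | hplane
  · exfalso
    apply hnp
    intro d
    refine ⟨k, ?_⟩
    apply Subtype.ext
    apply hκ
    rw [Subgroup.coe_pow, Subgroup.coe_one, map_pow, map_one, ← hκ₁a]
    apply autEnd_injective p V
    rcases subsingleton_or_nontrivial (Additive V) with hs | hn
    · apply LinearMap.ext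
      intro x
      exact Subsingleton.elim _ _
    have hchar : CharP (Module.End (ZMod p) (Additive V)) p :=
      charP_of_injective_algebraMap
        (algebraMap (ZMod p) (Module.End (ZMod p) (Additive V))).injective p
    have hle : k ≤ p ^ k := (Nat.lt_pow_self (Fact.out : p.Prime).one_lt).le
    have h1 : (θ d - 1) ^ (p ^ k) = 0 := pow_eq_zero_of_le hle (hk d)
    rw [sub_pow_char_pow_of_commute p k (Commute.one_right _), one_pow, sub_eq_zero] at h1
    rw [map_pow, map_one]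
    have : autEnd p V (κ₁ d) = θ d := by rw [hθ]; rfl
    rw [this]
    exact h1
  · obtain ⟨c₁, c₂, m, u₀, hm, hu₀, h1, h2, h3⟩ := hplane
    refine ⟨(c₁ : H), (c₂ : H), m, Additive.toMul u₀, hm, ?_, ?_, ?_, ?_⟩
    · intro h
      apply hu₀
      exact congrArg Additive.ofMul h
    · rw [e1] at h1
      have h1' := congrArg Additive.toMul h1
      rw [toMul_ofMul, toMul_zero, mul_inv_eq_one, hκ₁a] at h1'
      exact h1'
    · rw [e1, e1] at h2
      have h2' := congrArg Additive.toMul h2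
      simp only [toMul_ofMul] at h2'
      rw [hκ₁a, hκ₁a] at h2'
      rw [h2', Int.cast_smul_eq_zsmul, toMul_zsmul]
    · rw [e1, e1] at h3
      have h3' := congrArg Additive.toMul h3
      simp only [toMul_ofMul, toMul_zero] at h3'
      rw [mul_inv_eq_one, hκ₁a] at h3'
      exact h3'

end Cfsg.Agent.Lib.Helper11.Qd
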