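import Mathlib
import Cfsg.Agent.Lib.Helper11.Qd.PlaneC
import Cfsg.Agent.Lib.Helper11.Qd.GoodGe5
import Cfsg.Agent.Lib.Helper11.Qd.Mat3
import Cfsg.Agent.Lib.Helper11.Dickson.InvThree

set_option autoImplicit false
set_option linter.unusedSectionVars false
set_option linter.style.haveILetI false

/-! Good pairs for `p = 3`, and the provider for all odd primes. -/

namespace Cfsg.Agent.Lib.Helper11.Qd

open Matrix Cfsg Cfsg.Agent.Lib.Helper20.QuatSec Cfsg.Agent.Lib.Helper53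
  Cfsg.Agent.Lib.Helper11.Dickson
open scoped MatrixGroups

universe u v

theorem exists_rel_of_two_group {Y : Type u} [Group Y] [Finite Y] (R : Subgroup Y)
    (hR2 : IsPGroup 2 R) (hna : ∃ n ∈ R, ∃ m ∈ R, n * m ≠ m * n) (z : Y) (hzR : z ∈ R)
    (hz1 : z ≠ 1) (hzz : z * z = 1) (hu : ∀ t ∈ R, t * t = 1 → t = 1 ∨ t = z) (x : Y)
    (hx : x ∈ Subgroup.normalizer (R : Set Y)) (hodd : Odd (orderOf x))
    (hnc : ¬ ∀ q ∈ R, x * q * x⁻¹ = q) :
    ∃ i : Y, Rel i x := by
  -- structure of `R`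
  have hz' : orderOf (⟨z, hzR⟩ : ↥R) = 2 := by
    apply orderOf_eq_prime
    · apply Subtype.ext
      rw [pow_two]
      exact hzz
    · intro h
      exact hz1 (congrArg Subtype.val h)
  have hu' : ∀ t : ↥R, orderOf t = 2 → t = ⟨z, hzR⟩ := by
    intro t ht
    have h1 : t ^ 2 = 1 := by
      have := pow_orderOf_eq_one t
      rwa [ht] at this
    have h2 : (t : Y) * (t : Y) = 1 := by
      have := congrArg Subtype.val h1
      rw [pow_two] at this
      exact this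
    rcases hu t t.2 h2 with h | h
    · exfalso
      have : t = 1 := Subtype.ext h
      rw [this, orderOf_one] at ht
      omega
    · exact Subtype.ext h
  have hna' : ∃ x y : ↥R, x * y ≠ y * x := by
    obtain ⟨n, hn, m, hm, hnm⟩ := hna
    exact ⟨⟨n, hn⟩, ⟨m, hm⟩, fun h => hnm (congrArg Subtype.val h)⟩
  obtain ⟨a₀, ha₀⟩ := ui_exists_cyclic_index_two hR2 hz' hu' hna'
  have hst := fun (b : ↥R) (hb : b ∉ Subgroup.zpowers a₀) =>
    ui_struct hR2 hz' hu' hna' ha₀ hb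
  obtain ⟨A, hA⟩ : ∃ A : Subgroup Y, A = Subgroup.zpowers (a₀ : Y) := ⟨_, rfl⟩
  have hmemA : ∀ t : ↥R, (t : Y) ∈ A ↔ t ∈ Subgroup.zpowers a₀ := by
    intro t
    rw [hA, Subgroup.mem_zpowers_iff, Subgroup.mem_zpowers_iff]
    constructor
    · rintro ⟨k, hk⟩
      refine ⟨k, Subtype.ext ?_⟩
      rw [Subgroup.coe_zpow]
      exact hk
    · rintro ⟨k, hk⟩
      refine ⟨k, ?_⟩
      rw [← hk, Subgroup.coe_zpow]
  have hAR : A ≤ R := by
    rw [hA, Subgroup.zpowers_le]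
    exact a₀.2
  have hgq : GQ R A z := by
    refine ⟨hAR, ?_, hz1, hzz, ?_, ?_, ?_, hu⟩
    · rw [hA]; infer_instance
    · intro t ht htA
      have h1 := (hst ⟨t, ht⟩ (fun h => htA ((hmemA ⟨t, ht⟩).mpr h))).1
      exact congrArg Subtype.val h1
    · intro t ht htA v hv
      have h1 := (hst ⟨t, ht⟩ (fun h => htA ((hmemA ⟨t, ht⟩).mpr h))).2
      have h2 : t * (a₀ : Y) * t⁻¹ = (a₀ : Y)⁻¹ := congrArg Subtype.val h1
      rw [hA] at hv
      obtain ⟨k, rfl⟩ := Subgroup.mem_zpowers_iff.mp hv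
      rw [← _root_.zpow_neg, ← _root_.inv_zpow']
      have : t * (a₀ : Y) ^ k * t⁻¹ = (t * (a₀ : Y) * t⁻¹) ^ k := by
        rw [conj_zpow]
      rw [this, h2]
    · intro s hs t ht hsA htA
      have h1 : (⟨t, ht⟩ : ↥R) * ⟨s, hs⟩ ∈ Subgroup.zpowers a₀ := by
        rw [Subgroup.mul_mem_iff_of_index_two ha₀]
        constructor
        · intro h; exact absurd ((hmemA ⟨t, ht⟩).mpr h) htA
        · intro h; exact absurd ((hmemA ⟨s, hs⟩).mpr h) hsA
      exact (hmemA _).mpr h1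
  exact exists_rel hgq hR2 R le_rfl x hx hodd hnc


open Cfsg.Agent.Lib.Helper35.GenQuad Cfsg.Agent.Lib.Helper35.Quad2 Cfsg.Agent.Lib.Helper35.OddGL2
  Cfsg.Agent.Lib.Helper2 in
/-- the `SL(2,3)` relations in the injective case, `p = 3` -/
theorem exists_rel_three {X : Type u} [Group X] [Finite X] {K : Type v} [Field K]
    [CharP K 3] (φ : X →* Matrix (Fin 2) (Fin 2) K) (hφ : Function.Injective φ)
    (hdet : ∀ g, (φ g).det = 1) (a b : X) (l : K) (hl : l ≠ 0)
    (hφa : φ a = !![1, l; 0, 1]) (hφb : φ b = !![1, 0; 1, 1]) :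
    ∃ i g : X, Rel i g ∧ Odd (orderOf g) ∧ φ (i ^ 2) = -1 := by
  haveI : Fact (Nat.Prime 3) := ⟨Nat.prime_three⟩
  haveI : Fact (Nat.Prime 2) := ⟨Nat.prime_two⟩
  have h2K : (2 : K) ≠ 0 := by
    intro h
    have h3 : ((2 : ℕ) : K) = 0 := by exact_mod_cast h
    rw [CharP.cast_eq_zero_iff K 3] at h3
    omega
  have hap : a ^ 3 = 1 := hφ (by rw [map_pow, hφa, upper_pow_char, map_one])
  have hbp : b ^ 3 = 1 := hφ (by rw [map_pow, hφb, lower_pow_char, map_one])
  -- Frobenius' condition fails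
  have hnF : ¬ FrobCond 2 X := by
    intro hF
    have h1 := not_dvd_card_pResidual_of_frobCond (p := 2) (Nat.card X) X rfl hF
    obtain ⟨M, hM⟩ : ∃ M : Subgroup X, M = pResidual 2 X := ⟨_, rfl⟩
    rw [← hM] at h1
    have hmem : ∀ c : X, c ^ 3 = 1 → c ∈ M := by
      intro c hc
      rw [hM]
      apply Subgroup.subset_closure
      show Nat.Coprime (orderOf c) 2
      have hd : orderOf c ∣ 3 := orderOf_dvd_of_pow_eq_one hc
      exact Nat.Coprime.coprime_dvd_left hd (by norm_num)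
    have hodd : Odd (Nat.card M) := Nat.not_even_iff_odd.mp (fun h => h1 (even_iff_two_dvd.mp h))
    obtain ⟨M₃, hM₃⟩ := exists_pElements_subgroup (F := K) (p := 3) (by norm_num) (Nat.card M)
      ↥M rfl hodd (φ.comp M.subtype) (hφ.comp M.subtype_injective) (fun k => hdet _)
    have ha3 : (⟨a, hmem a hap⟩ : ↥M) ∈ M₃ := (hM₃ _).mpr ⟨1, by
      apply Subtype.ext
      rw [pow_one, Subgroup.coe_pow, Subgroup.coe_one]
      exact hap⟩
    have hb3 : (⟨b, hmem b hbp⟩ : ↥M) ∈ M₃ := (hM₃ _).mpr ⟨1, by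
      apply Subtype.ext
      rw [pow_one, Subgroup.coe_pow, Subgroup.coe_one]
      exact hbp⟩
    obtain ⟨j, hj⟩ := (hM₃ _).mp (M₃.mul_mem ha3 hb3)
    have hj' : (a * b) ^ (3 ^ j) = 1 := by
      have := congrArg Subtype.val hj
      simpa using this
    have h4 : (φ (a * b)) ^ (3 ^ j) = 1 := by rw [← map_pow, hj', map_one]
    have h5 := trace_eq_two_of_pow_mat (p := 3) h4
    rw [map_mul, hφa, hφb, trace_fin_two] at h5
    simp [Matrix.mul_apply, Fin.sum_univ_two] at h5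
    apply hl
    linear_combination h5
  unfold FrobCond at hnF
  push Not at hnF
  obtain ⟨Q, hQ2, g, hgN, hgo, hgC⟩ := hnF
  have hgodd : Odd (orderOf g) := Nat.coprime_two_right.mp hgo
  have hnc : ¬ ∀ q ∈ Q, g * q * g⁻¹ = q := by
    intro h
    apply hgC
    rw [Subgroup.mem_centralizer_iff]
    intro q hq
    have := h q hq
    calc q * g = (g * q * g⁻¹) * g := by rw [this]
      _ = g * q := by group
  have hQne : Q ≠ ⊥ := by
    rintro rfl
    apply hnc
    intro q hq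
    rw [Subgroup.mem_bot.mp hq]; group
  -- the involution
  have h2Q : 2 ∣ Nat.card ↥Q := by
    obtain ⟨k, hk⟩ := IsPGroup.iff_card.mp hQ2
    rw [hk]
    apply dvd_pow_self
    rintro rfl
    rw [pow_zero] at hk
    exact hQne (Subgroup.card_eq_one.mp hk)
  obtain ⟨z', hz'⟩ := exists_prime_orderOf_dvd_card' 2 h2Q
  obtain ⟨z, hz⟩ : ∃ z : X, z = (z' : X) := ⟨_, rfl⟩
  have hzQ : z ∈ Q := by rw [hz]; exact z'.2
  have hz1 : z ≠ 1 := by
    intro h
    have : z' = 1 := Subtype.ext (by rw [← hz, h]; rfl)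
    rw [this, orderOf_one] at hz'
    omega
  have hzz : z * z = 1 := by
    have := pow_orderOf_eq_one z'
    rw [hz', pow_two] at this
    have := congrArg Subtype.val this
    rw [hz]
    simpa using this
  have hinv : ∀ t : X, t * t = 1 → t ≠ 1 → φ t = -1 := by
    intro t ht ht1
    rcases eq_one_or_neg_one_of_sq h2K (φ t) (by rw [← map_mul, ht, map_one]) (hdet t) with h | h
    · exact absurd (hφ (by rw [h, map_one])) ht1
    · exact h
  have hu : ∀ t ∈ Q, t * t = 1 → t = 1 ∨ t = z := by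
    intro t _ ht
    by_cases ht1 : t = 1
    · left; exact ht1
    · right
      apply hφ
      rw [hinv t ht ht1, hinv z hzz hz1]
  -- `Q` is not abelian
  have hna : ∃ n ∈ Q, ∃ m ∈ Q, n * m ≠ m * n := by
    by_contra hcon
    push Not at hcon
    apply hnc
    have hcyc : IsCyclic ↥Q := by
      apply Cfsg.Agent.Lib.Helper53.ui_isCyclic_of_comm hQ2 (z := ⟨z, hzQ⟩)
      · intro t ht
        have ht2 : t ^ 2 = 1 := by
          have := pow_orderOf_eq_one t
          rwa [ht] at this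
        have ht1 : t ≠ 1 := by
          intro h
          rw [h, orderOf_one] at ht
          omega
        have h2' : (t : X) * (t : X) = 1 := by
          have := congrArg Subtype.val ht2
          rw [pow_two] at this
          exact this
        rcases hu t t.2 h2' with h | h
        · exact absurd (Subtype.ext h) ht1
        · exact Subtype.ext h
      · intro x y
        apply Subtype.ext
        exact hcon x x.2 y y.2
    obtain ⟨α, hα⟩ : ∃ α : MulAut ↥Q, α = conjOn Q (Subgroup.normalizer (Q : Set X)) le_rfl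
      ⟨g, hgN⟩ := ⟨_, rfl⟩
    have hαn : α ^ orderOf g = 1 := by
      rw [hα, ← map_pow]
      have : (⟨g, hgN⟩ : ↥(Subgroup.normalizer (Q : Set X))) ^ orderOf g = 1 := by
        apply Subtype.ext
        rw [Subgroup.coe_pow, Subgroup.coe_one]
        exact pow_orderOf_eq_one g
      rw [this, map_one]
    have hα1 := mulAut_eq_one_of_odd hQ2 α hgodd hαn
    intro q hq
    have := congrArg (fun f : MulAut ↥Q => ((f ⟨q, hq⟩ : ↥Q) : X)) hα1
    simp only [hα, conjOn_apply, MulAut.one_apply] at this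
    exact this
  obtain ⟨i, hi⟩ := exists_rel_of_two_group Q hQ2 hna z hzQ hz1 hzz hu g hgN hgodd hnc
  refine ⟨i, g, hi, hgodd, ?_⟩
  apply hinv
  · rw [← pow_two, ← pow_mul]
    exact hi.hi4
  · exact hi.hi2


/-- good pairs, `p = 3`, injective case -/
theorem goodPair_three_of_injective {X : Type u} [Group X] [Finite X] {K : Type v} [Field K]
    [CharP K 3] (φ : X →* Matrix (Fin 2) (Fin 2) K) (hφ : Function.Injective φ)
    (hdet : ∀ g, (φ g).det = 1) (a b : X) (l : K) (hl : l ≠ 0)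
    (hφa : φ a = !![1, l; 0, 1]) (hφb : φ b = !![1, 0; 1, 1]) :
    GoodPair 3 φ := by
  obtain ⟨i, g, hr, hodd, hi2⟩ := exists_rel_three φ hφ hdet a b l hl hφa hφb
  have hGG' : φ g * φ g⁻¹ = 1 := by rw [← map_mul, mul_inv_cancel, map_one]
  have hII' : φ i * φ i⁻¹ = 1 := by rw [← map_mul, mul_inv_cancel, map_one]
  have hI2 : φ i * φ i = -1 := by rw [← map_mul, ← pow_two]; exact hi2
  have hJ : φ g * φ i * φ g⁻¹ = φ (g * i * g⁻¹) := by rw [map_mul, map_mul]
  have hJ2 : (φ g * φ i * φ g⁻¹) * (φ g * φ i * φ g⁻¹) = -1 := by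
    rw [hJ, ← map_mul, hr.h1, hi2]
  have hI' : φ i⁻¹ = -φ i := by
    calc φ i⁻¹ = -(φ i * φ i) * φ i⁻¹ := by rw [hI2, neg_neg, one_mul]
      _ = -φ i := by rw [neg_mul, mul_assoc, hII', mul_one]
  have hanti : φ i * (φ g * φ i * φ g⁻¹) = -((φ g * φ i * φ g⁻¹) * φ i) := by
    rw [hJ]
    have h4 : (g * i * g⁻¹) * i = i⁻¹ * (g * i * g⁻¹) := by
      have := hr.h2
      calc (g * i * g⁻¹) * i = ((g * i * g⁻¹) * i * (g * i * g⁻¹)⁻¹) * (g * i * g⁻¹) := by group
        _ = i⁻¹ * (g * i * g⁻¹) := by rw [this]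
    rw [← map_mul φ (g * i * g⁻¹) i, h4, map_mul φ i⁻¹ (g * i * g⁻¹), hI', neg_mul, neg_neg]
  have h3 : φ g * (φ g * φ i * φ g⁻¹) * φ g⁻¹ = φ i * (φ g * φ i * φ g⁻¹) := by
    rw [hJ, ← map_mul, ← map_mul, hr.h3, map_mul]
  have hGn : φ g ^ orderOf g = 1 := by rw [← map_pow, pow_orderOf_eq_one, map_one]
  have hcomm : Commute (φ g ^ 3) (φ i) := by
    rw [← map_pow]; exact (hr.commute_cube).map φ
  obtain ⟨s, hs, h1, h2, h3'⟩ := mat3_pair (φ i) (φ i⁻¹) (φ g) (φ g⁻¹) hGG' hII' (hdet g) (hdet i)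
    hI2 hJ2 hanti h3 (orderOf g) hodd hGn hcomm
  refine ⟨g, i * g * i⁻¹, s, -1, hs, ?_, h1, ?_, ?_⟩
  · decide
  · rw [map_mul, map_mul, h2]
    simp
  · rw [map_mul, map_mul]
    exact h3'

/-- good pairs, `p = 3` -/
theorem goodPair_three {H : Type u} [Group H] [Finite H] {K : Type v} [Field K]
    [CharP K 3] (φ : H →* Matrix (Fin 2) (Fin 2) K) (hdet : ∀ g, (φ g).det = 1) (a b : H)
    (l : K) (hl : l ≠ 0) (hφa : φ a = !![1, l; 0, 1]) (hφb : φ b = !![1, 0; 1, 1]) :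
    GoodPair 3 φ := by
  obtain ⟨ψ, hψ⟩ : ∃ ψ : H →* (Matrix (Fin 2) (Fin 2) K)ˣ, ψ = φ.toHomUnits := ⟨_, rfl⟩
  have hψφ : ∀ g : H, ((ψ g : (Matrix (Fin 2) (Fin 2) K)ˣ) : Matrix (Fin 2) (Fin 2) K) = φ g := by
    intro g; rw [hψ]; rfl
  have hφb' : ∀ g : H, ((Units.coeHom _).comp (QuotientGroup.kerLift ψ))
      (QuotientGroup.mk' ψ.ker g) = φ g := by
    intro g
    rw [MonoidHom.comp_apply, QuotientGroup.mk'_apply, QuotientGroup.kerLift_mk]
    exact hψφ g
  have hinj : Function.Injective ((Units.coeHom (Matrix (Fin 2) (Fin 2) K)).comp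
      (QuotientGroup.kerLift ψ)) := by
    intro x y h
    apply QuotientGroup.kerLift_injective ψ
    exact Units.ext h
  have key := goodPair_three_of_injective _ hinj ?_ (QuotientGroup.mk' ψ.ker a)
    (QuotientGroup.mk' ψ.ker b) l hl ?_ ?_
  · obtain ⟨c₁, c₂, s, m, hs, hm, h1, h2, h3⟩ := key
    obtain ⟨c₁, rfl⟩ := QuotientGroup.mk'_surjective ψ.ker c₁
    obtain ⟨c₂, rfl⟩ := QuotientGroup.mk'_surjective ψ.ker c₂
    simp only [hφb'] at h1 h2 h3
    exact ⟨c₁, c₂, s, m, hs, hm, h1, h2, h3⟩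
  · intro g
    obtain ⟨g, rfl⟩ := QuotientGroup.mk'_surjective ψ.ker g
    rw [hφb']
    exact hdet g
  · rw [hφb', hφa]
  · rw [hφb', hφb]

/-- **Good pairs exist for every odd prime.** -/
theorem goodPairProvider {p : ℕ} [Fact p.Prime] (hp2 : p ≠ 2) : GoodPairProvider.{u} p := by
  intro H' _ _ φ hdet a b l hl hφa hφb
  by_cases hp3 : p = 3
  · subst hp3
    exact goodPair_three φ hdet a b l hl hφa hφb
  · exact goodPair_ge5 p hp2 hp3 φ hdet a b l hl hφa hφb

end Cfsg.Agent.Lib.Helper11.Qd
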