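import Mathlib
import Cfsg.Agent.Lib.Helper11.Qd.RepFull
import Cfsg.Agent.Lib.Helper11.Dickson.SL2Gen

set_option autoImplicit false
set_option linter.unusedSectionVars false
set_option linter.style.haveILetI false

/-! The action on an invariant plane over the prime field is that of `SL₂(p)`. -/

namespace Cfsg.Agent.Lib.Helper11.Qd

open Module Matrix Cfsg.Agent.Lib.Helper35.QuadCore Cfsg.Agent.Lib.Helper11.Dickson
open scoped MatrixGroups

universe u v w

theorem sU_nsmul {F : Type*} [Field F] (t : F) (n : ℕ) : sU (n • t) = sU t ^ n := by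
  induction n with
  | zero => rw [zero_smul, sU_zero, pow_zero]
  | succ n ih => rw [succ_nsmul, sU_add, ih, pow_succ]

theorem sL_nsmul {F : Type*} [Field F] (t : F) (n : ℕ) : sL (n • t) = sL t ^ n := by
  induction n with
  | zero => rw [zero_smul, sL_zero, pow_zero]
  | succ n ih => rw [succ_nsmul, sL_add, ih, pow_succ]

/-- over the prime field two unitriangular matrices generate `SL₂` -/
theorem closure_sU_sL_eq_top {p : ℕ} [Fact p.Prime] (l : ZMod p) (hl : l ≠ 0)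
    (S : Subgroup SL(2, ZMod p)) (hU : sU l ∈ S) (hL : sL (1 : ZMod p) ∈ S) : S = ⊤ := by
  rw [eq_top_iff]
  intro g _
  apply mem_closure_of_forall S _ _ g
  · intro t
    have h1 : t = (t / l).val • l := by
      rw [nsmul_eq_mul, ZMod.natCast_val, ZMod.cast_id', id_eq, div_mul_cancel₀ _ hl]
    rw [h1, sU_nsmul]
    exact S.pow_mem hU _
  · intro t
    have h1 : t = t.val • (1 : ZMod p) := by
      rw [nsmul_eq_mul, ZMod.natCast_val, ZMod.cast_id', id_eq, mul_one]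
    rw [h1, sL_nsmul]
    exact S.pow_mem hL _

/-- the representation on the plane -/
theorem plane_rep {p : ℕ} [Fact p.Prime] {W : Type w} [AddCommGroup W] [Module (ZMod p) W]
    {H : Type u} [Group H] (θ : H →* Module.End (ZMod p) W) (c₁ c₂ : H)
    (hgen : Subgroup.closure {c₁, c₂} = ⊤) (m : ℤ) (u₀ : W)
    (hm : (m : ZMod p) ≠ 0) (hu₀ : u₀ ≠ 0) (h1 : (θ c₁ - 1) u₀ = 0)
    (h2 : (θ c₁ - 1) ((θ c₂ - 1) u₀) = (m : ZMod p) • u₀)
    (h3 : (θ c₂ - 1) ((θ c₂ - 1) u₀) = 0) :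
    ∃ σ : H →* SL(2, ZMod p), Function.Surjective σ ∧
      Function.Injective (iota (K := ZMod p) u₀ ((θ c₂ - 1) u₀)) ∧
      ∀ g : H, Rep (θ g) u₀ ((θ c₂ - 1) u₀) (σ g).val := by
  obtain ⟨w₀, hw₀⟩ : ∃ w₀, w₀ = (θ c₂ - 1) u₀ := ⟨_, rfl⟩
  rw [← hw₀] at h2 h3 ⊢
  obtain ⟨φ, hdet, hRep, hφ1, hφ2⟩ := exists_rep2_full θ c₁ c₂ hgen (θ c₁ - 1) (θ c₂ - 1)
    (by abel) (by abel) (m : ZMod p) u₀ w₀ hm hu₀ h1 hw₀.symm h2 h3
  have hinj := iota_injective (K := ZMod p) (θ c₁ - 1) u₀ w₀ (m : ZMod p) hm hu₀ h1 h2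
  let σ : H →* SL(2, ZMod p) :=
    { toFun := fun g => ⟨φ g, hdet g⟩
      map_one' := by apply Subtype.ext; exact map_one φ
      map_mul' := fun g h => by apply Subtype.ext; exact map_mul φ g h }
  refine ⟨σ, ?_, hinj, fun g => hRep g⟩
  have htop : σ.range = ⊤ := by
    apply closure_sU_sL_eq_top (m : ZMod p) hm
    · refine ⟨c₁, ?_⟩
      apply Subtype.ext
      exact hφ1
    · refine ⟨c₂, ?_⟩
      apply Subtype.ext
      exact hφ2
  intro s
  have : s ∈ σ.range := by rw [htop]; exact Subgroup.mem_top s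
  exact this

end Cfsg.Agent.Lib.Helper11.Qd
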