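import Mathlib
import Cfsg.Agent.Lib.Helper11.Qd.PlaneB
import Cfsg.Agent.Lib.Helper11.Qd.PlaneC

set_option autoImplicit false
set_option linter.unusedSectionVars false
set_option linter.style.haveILetI false

/-! From plane data to an `SL₂(p)`-action on an embedded plane. -/

namespace Cfsg.Agent.Lib.Helper11.Qd

open Module Matrix Cfsg Cfsg.Agent.Lib.Helper35.QuadCore Cfsg.Agent.Lib.Helper35.GenQuad
  Cfsg.Agent.Lib.Helper35.PStab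
open scoped MatrixGroups

universe u v w

theorem plane_of_data {p : ℕ} [Fact p.Prime] {H : Type u} [Group H] {V : Type w} [CommGroup V]
    (hVe : ∀ v : V, v ^ p = 1) (κ : H →* MulAut V) (c₁ c₂ : H) (m : ℤ) (u₀ : V)
    (hm : (m : ZMod p) ≠ 0) (hu₀ : u₀ ≠ 1) (h1 : κ c₁ u₀ = u₀)
    (h2 : κ c₁ (κ c₂ u₀ * u₀⁻¹) * (κ c₂ u₀ * u₀⁻¹)⁻¹ = u₀ ^ m)
    (h3 : κ c₂ (κ c₂ u₀ * u₀⁻¹) = κ c₂ u₀ * u₀⁻¹) :
    ∃ (σ : ↥(Subgroup.closure {c₁, c₂}) →* SL(2, ZMod p))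
      (e : Multiplicative (Fin 2 → ZMod p) →* V), Function.Surjective σ ∧ Function.Injective e ∧
      ∀ (g : ↥(Subgroup.closure {c₁, c₂})) (s : Fin 2 → ZMod p),
        κ (g : H) (e (Multiplicative.ofAdd s)) = e (Multiplicative.ofAdd ((σ g).val *ᵥ s)) := by
  obtain ⟨H₁, hH₁⟩ : ∃ H₁ : Subgroup H, H₁ = Subgroup.closure {c₁, c₂} := ⟨_, rfl⟩
  rw [← hH₁]
  have hc₁ : c₁ ∈ H₁ := by rw [hH₁]; exact Subgroup.subset_closure (by simp)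
  have hc₂ : c₂ ∈ H₁ := by rw [hH₁]; exact Subgroup.subset_closure (by simp)
  obtain ⟨κ₁, hκ₁⟩ : ∃ κ₁ : ↥H₁ →* MulAut V, κ₁ = κ.comp H₁.subtype := ⟨_, rfl⟩
  have hκ₁a : ∀ c : ↥H₁, κ₁ c = κ (c : H) := fun c => by rw [hκ₁]; rfl
  have instMod : Module (ZMod p) (Additive V) := AddCommGroup.zmodModule (by
    intro x
    have := hVe (Additive.toMul x)
    exact congrArg Additive.ofMul this)
  obtain ⟨θ, hθ⟩ : ∃ θ : ↥H₁ →* Module.End (ZMod p) (Additive V), θ = (autEnd p V).comp κ₁ :=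
    ⟨_, rfl⟩
  have e1 : ∀ (c : ↥H₁) (w : Additive V),
      (θ c - 1) w = Additive.ofMul (κ₁ c (Additive.toMul w) * (Additive.toMul w)⁻¹) := by
    intro c w
    rw [LinearMap.sub_apply, Module.End.one_apply, hθ]
    show autEnd p V (κ₁ c) w - w = _
    rw [autEnd_apply, ofMul_mul, ofMul_inv, ofMul_toMul, sub_eq_add_neg]
  have e2 : ∀ (c : ↥H₁) (w : Additive V), θ c w = Additive.ofMul (κ (c : H) (Additive.toMul w)) := by
    intro c w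
    rw [hθ]
    show autEnd p V (κ₁ c) w = _
    rw [autEnd_apply, hκ₁a]
  obtain ⟨U₀, hU₀⟩ : ∃ U₀ : Additive V, U₀ = Additive.ofMul u₀ := ⟨_, rfl⟩
  have hU₀0 : U₀ ≠ 0 := by
    rw [hU₀]
    intro h
    apply hu₀
    exact congrArg Additive.toMul h
  have k1 : (θ ⟨c₁, hc₁⟩ - 1) U₀ = 0 := by
    rw [e1, hU₀, toMul_ofMul, hκ₁a, h1, mul_inv_cancel]
    rfl
  have k2 : (θ ⟨c₁, hc₁⟩ - 1) ((θ ⟨c₂, hc₂⟩ - 1) U₀) = (m : ZMod p) • U₀ := by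
    rw [e1, e1, hU₀]
    simp only [toMul_ofMul, hκ₁a]
    rw [h2, Int.cast_smul_eq_zsmul, ofMul_zpow]
  have k3 : (θ ⟨c₂, hc₂⟩ - 1) ((θ ⟨c₂, hc₂⟩ - 1) U₀) = 0 := by
    rw [e1, e1, hU₀]
    simp only [toMul_ofMul, hκ₁a]
    rw [h3, mul_inv_cancel]
    rfl
  obtain ⟨σ, hσ, hinj, hRep⟩ := plane_rep θ ⟨c₁, hc₁⟩ ⟨c₂, hc₂⟩
    (closure_pair_eq_top H₁ c₁ c₂ hH₁ hc₁ hc₂) m U₀ hm hU₀0 k1 k2 k3
  obtain ⟨W₀, hW₀⟩ : ∃ W₀ : Additive V, W₀ = (θ ⟨c₂, hc₂⟩ - 1) U₀ := ⟨_, rfl⟩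
  rw [← hW₀] at hinj hRep
  obtain ⟨e, he⟩ : ∃ e : Multiplicative (Fin 2 → ZMod p) →* V,
      e = (MulEquiv.multiplicativeAdditive V).toMonoidHom.comp
        (AddMonoidHom.toMultiplicative (iota (K := ZMod p) U₀ W₀).toAddMonoidHom) := ⟨_, rfl⟩
  have hes : ∀ s : Fin 2 → ZMod p,
      e (Multiplicative.ofAdd s) = Additive.toMul (iota (K := ZMod p) U₀ W₀ s) := by
    intro s
    rw [he]
    rfl
  refine ⟨σ, e, hσ, ?_, ?_⟩
  · intro x y hxy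
    have hx := hes (Multiplicative.toAdd x)
    have hy := hes (Multiplicative.toAdd y)
    rw [ofAdd_toAdd] at hx hy
    rw [hx, hy] at hxy
    have := hinj (Additive.toMul.injective hxy)
    exact Multiplicative.toAdd.injective this
  · intro g s
    rw [hes, hes, ← hRep g s, e2]
    rfl

end Cfsg.Agent.Lib.Helper11.Qd
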