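import Mathlib
import Cfsg.Agent.Lib.Helper11.Qd.PlaneD
import Cfsg.Agent.Lib.Helper11.Qd.ExtractE

set_option autoImplicit false
set_option linter.unusedSectionVars false
set_option linter.style.haveILetI false

/-! A quadratic element on a minimal normal `p`-subgroup of a `Qd(p)`-free group is trivial. -/

namespace Cfsg.Agent.Lib.Helper11.Qd

open Module Matrix Cfsg Cfsg.Agent.Lib.Helper35.PStab Cfsg.Agent.Lib.Helper11.Dickson
  Cfsg.Agent.Lib.Helper46.SL2
open scoped MatrixGroups commutatorElement IsMulCommutative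

universe u

theorem qd_min {p : ℕ} [Fact p.Prime] (hp2 : p ≠ 2) (hgp : GoodPairProvider.{u} p)
    {X : Type u} [Group X] [Finite X] (hX : ¬ Involves ↥(Cfsg.qd p) X)
    (P : Subgroup X) [hPn : P.Normal] (hPp : IsPGroup p P) (hPbot : P ≠ ⊥)
    (hmin : ∀ U : Subgroup X, U.Normal → U ≤ P → U = ⊥ ∨ U = P) (a : X)
    (hq : ∀ v ∈ P, ⁅a, ⁅a, v⁆⁆ = 1) : a ∈ Subgroup.centralizer (P : Set X) := by
  by_contra hne
  obtain ⟨hPc, hPe⟩ := minimal_normal_elementary P hPp hPbot hmin
  haveI : IsMulCommutative P := ⟨⟨fun x y => Subtype.ext (hPc x x.2 y y.2)⟩⟩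
  haveI hnt : Nontrivial P := (Subgroup.nontrivial_iff_ne_bot P).mpr hPbot
  have hVe : ∀ v : ↥P, v ^ p = 1 := fun v => Subtype.ext (by
    have := hPe v v.2
    simpa using this)
  let κ : X →* MulAut P := MulAut.conjNormal
  have hκ : ∀ (g : X) (v : P), ((κ g v : P) : X) = g * v * g⁻¹ := fun g v => rfl
  have hirr : ∀ U' : Subgroup P, (∀ g : X, ∀ v ∈ U', κ g v ∈ U') → U' = ⊥ ∨ U' = ⊤ := by
    intro U' hU'
    have hn : (U'.map P.subtype).Normal := by
      constructor
      rintro _ ⟨v, hv, rfl⟩ g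
      exact ⟨κ g v, hU' g v hv, rfl⟩
    rcases hmin _ hn (Subgroup.map_subtype_le U') with h | h
    · left
      rwa [Subgroup.map_eq_bot_iff_of_injective _ P.subtype_injective] at h
    · right
      rw [eq_top_iff]
      intro v _
      have : (v : X) ∈ U'.map P.subtype := by rw [h]; exact v.2
      obtain ⟨v', hv', hvv⟩ := this
      have : v' = v := Subtype.ext hvv
      rwa [this] at hv'
  have hqκ : ∀ v : P, κ a (κ a v * v⁻¹) = κ a v * v⁻¹ := by
    intro v
    apply Subtype.ext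
    have h1 := hq v v.2
    rw [commutatorElement_def, commutatorElement_def] at h1
    rw [hκ]
    simp only [Subgroup.coe_mul, Subgroup.coe_inv, hκ]
    calc a * (a * (v : X) * a⁻¹ * (v : X)⁻¹) * a⁻¹
        = (a * (a * (v : X) * a⁻¹ * (v : X)⁻¹) * a⁻¹ * (a * (v : X) * a⁻¹ * (v : X)⁻¹)⁻¹) *
            (a * (v : X) * a⁻¹ * (v : X)⁻¹) := by group
      _ = a * (v : X) * a⁻¹ * (v : X)⁻¹ := by rw [h1, one_mul]
  have hκa : κ a ≠ 1 := by
    intro h
    apply hne
    rw [Subgroup.mem_centralizer_iff]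
    intro v hv
    have h1 : κ a ⟨v, hv⟩ = ⟨v, hv⟩ := by rw [h]; rfl
    have h2 := congrArg Subtype.val h1
    rw [hκ] at h2
    calc v * a = (a * v * a⁻¹) * a := by rw [h2]
      _ = a * v := by group
  obtain ⟨κb, hκb'⟩ : ∃ κb : X ⧸ κ.ker →* MulAut P, κb = QuotientGroup.kerLift κ := ⟨_, rfl⟩
  have hκb : Function.Injective κb := by rw [hκb']; exact QuotientGroup.kerLift_injective κ
  have hκmk : ∀ g : X, κb (QuotientGroup.mk g) = κ g := fun g => by
    rw [hκb']; exact QuotientGroup.kerLift_mk κ g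
  have hOp : pCore p (X ⧸ κ.ker) = ⊥ := by
    apply pCore_eq_bot_of_irreducible hVe κb hκb
    intro U hU
    apply hirr U
    intro g v hv
    rw [← hκmk]
    exact hU _ v hv
  obtain ⟨c₁b, c₂b, m, u₀, hm, hu₀, h1, h2, h3⟩ := quad_plane_data hgp hVe κb hκb
    (QuotientGroup.mk a) (by intro v; rw [hκmk]; exact hqκ v) (by
      rw [hOp, Subgroup.mem_bot]
      intro h
      apply hκa
      rw [← hκmk, h, map_one])
  obtain ⟨c₁, rfl⟩ := QuotientGroup.mk_surjective c₁b
  obtain ⟨c₂, rfl⟩ := QuotientGroup.mk_surjective c₂b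
  rw [hκmk] at h1 h3
  rw [hκmk, hκmk] at h2
  obtain ⟨σ, e, hσ, he, hcompat⟩ := plane_of_data hVe κ c₁ c₂ m u₀ hm hu₀ h1 h2 h3
  apply hX
  apply involves_qd_of_embedded_plane hp2 (P.subtype.comp e)
    (P.subtype_injective.comp he) (Subgroup.closure {c₁, c₂}) σ hσ
  intro x s
  have := hcompat x s
  have h4 := congrArg Subtype.val this
  rw [hκ] at h4
  exact h4

end Cfsg.Agent.Lib.Helper11.Qd
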