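import Mathlib
import Cfsg.Agent.Lib.Helper35.PStabGen

set_option autoImplicit false
set_option linter.unusedSectionVars false
set_option linter.style.haveILetI false

/-! `p`-stability for a class of groups closed under quotients in which quadratic elements
centralize minimal normal `p`-subgroups (variant of `Helper35.PStab.StabClass` where the minimal
case is stated internally). -/

namespace Cfsg.Agent.Lib.Helper11.Qd

open Cfsg Cfsg.Agent.Lib.Helper76 Cfsg.Agent.Lib.Helper22 Cfsg.Agent.Lib.Helper35.PStab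
open scoped commutatorElement IsMulCommutative

universe u

/-- a class of finite groups for which `p`-stability can be proved by induction -/
structure StabClass2 (p : ℕ) (C : ∀ (X : Type u) [Group X], Prop) : Prop where
  quot : ∀ (X : Type u) [Group X] [Finite X] (N : Subgroup X) [N.Normal], C X → C (X ⧸ N)
  min : ∀ (X : Type u) [Group X] [Finite X], C X →
    ∀ (P : Subgroup X) [P.Normal], IsPGroup p P → P ≠ ⊥ →
    (∀ U : Subgroup X, U.Normal → U ≤ P → U = ⊥ ∨ U = P) →
    ∀ a : X, (∀ v ∈ P, ⁅a, ⁅a, v⁆⁆ = 1) → a ∈ Subgroup.centralizer (P : Set X)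

/-- **`p`-stability** (group form, `D`-version) for a class of groups closed under quotients in
which quadratic elements act trivially on irreducible modules. -/
theorem StabClass2.ps_group {p : ℕ} [Fact p.Prime] {C : ∀ (X : Type u) [Group X], Prop}
    (hC : StabClass2 p C) :
    ∀ (n : ℕ) (X : Type u) [Group X] [Finite X], C X →
      ∀ P : Subgroup X, P.Normal → IsPGroup p P → Nat.card P < n →
      ∀ a : X, (∀ v ∈ P, ⁅a, ⁅a, v⁆⁆ = 1) →
      ∃ D : Subgroup X, D.Normal ∧ a ∈ D ∧
        ∀ d ∈ D, ∃ k : ℕ, d ^ (p ^ k) ∈ Subgroup.centralizer (P : Set X) := by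
  intro n
  induction n with
  | zero => intro X _ _ _ P _ _ h; exact absurd h (Nat.not_lt_zero _)
  | succ n ih =>
    intro X _ _ hX P hPn hPp hcard a hq
    by_cases hPbot : P = ⊥
    · refine ⟨⊤, inferInstance, Subgroup.mem_top a, fun d _ => ⟨0, ?_⟩⟩
      rw [hPbot, Subgroup.mem_centralizer_iff]
      intro h hh
      have : h = 1 := hh
      rw [this, one_mul, mul_one]
    by_cases hmin : ∃ U : Subgroup X, U.Normal ∧ U ≤ P ∧ U ≠ ⊥ ∧ U ≠ P
    · obtain ⟨U, hUn, hUP, hUbot, hUneP⟩ := hmin
      have hcardU : Nat.card U < n := by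
        have h1 : Nat.card U < Nat.card P := by
          by_contra h
          exact hUneP (Subgroup.eq_of_le_of_card_ge hUP (not_lt.mp h))
        omega
      obtain ⟨D₁, hD₁n, haD₁, hD₁⟩ := ih X hX U hUn (hPp.to_le hUP) hcardU a
        (fun v hv => hq v (hUP hv))
      -- the quotient
      let f := QuotientGroup.mk' U
      have hf : Function.Surjective f := QuotientGroup.mk'_surjective U
      set Pb := P.map f with hPb
      have hPbn : Pb.Normal := hPn.map f hf
      have hPbp : IsPGroup p Pb := hPp.map f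
      have hcardPb : Nat.card Pb < n := by
        have h1 : Nat.card Pb < Nat.card P := by
          classical
          letI : Fintype P := Fintype.ofFinite _
          letI : Fintype Pb := Fintype.ofFinite _
          rw [Nat.card_eq_fintype_card, Nat.card_eq_fintype_card]
          apply Fintype.card_lt_of_surjective_not_injective (f.subgroupMap P)
            (f.subgroupMap_surjective P)
          intro hinj
          obtain ⟨u, hu1⟩ := (Subgroup.ne_bot_iff_exists_ne_one).mp hUbot
          have h2 : f.subgroupMap P ⟨u, hUP u.2⟩ = f.subgroupMap P 1 := by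
            apply Subtype.ext
            rw [map_one]
            show f (u : X) = 1
            exact (QuotientGroup.eq_one_iff _).mpr u.2
          have h3 := hinj h2
          apply hu1
          apply Subtype.ext
          have h4 := congrArg Subtype.val h3
          exact h4
        omega
      have hqb : ∀ v ∈ Pb, ⁅f a, ⁅f a, v⁆⁆ = 1 := by
        rintro _ ⟨v, hv, rfl⟩
        rw [← map_commutatorElement, ← map_commutatorElement, hq v hv, map_one]
      obtain ⟨D₂b, hD₂bn, haD₂b, hD₂b⟩ := ih (X ⧸ U) (hC.quot X U hX)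
        Pb hPbn hPbp hcardPb (f a) hqb
      set D₂ := D₂b.comap f with hD₂
      have hD₂n : D₂.Normal := hD₂bn.comap f
      refine ⟨D₁ ⊓ D₂, Subgroup.normal_inf_normal D₁ D₂, ⟨haD₁, haD₂b⟩, ?_⟩
      rintro d ⟨hd1, hd2⟩
      obtain ⟨k₁, hk₁⟩ := hD₁ d hd1
      obtain ⟨k₂, hk₂⟩ := hD₂b (f d) hd2
      set e := d ^ (p ^ (k₁ + k₂)) with he
      have heU : e ∈ Subgroup.centralizer (U : Set X) := by
        have : e = (d ^ (p ^ k₁)) ^ (p ^ k₂) := by rw [he, pow_add, pow_mul]
        rw [this]
        exact Subgroup.pow_mem _ hk₁ _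
      have heP : f e ∈ Subgroup.centralizer (Pb : Set (X ⧸ U)) := by
        have : f e = (f d ^ (p ^ k₂)) ^ (p ^ k₁) := by
          rw [he, map_pow, pow_add, mul_comm, pow_mul]
        rw [this]
        exact Subgroup.pow_mem _ hk₂ _
      -- split the order of `e`
      obtain ⟨j, m, hmp, hjm⟩ := Nat.exists_eq_pow_mul_and_not_dvd (orderOf_pos e).ne' p
        (Fact.out : p.Prime).ne_one
      set y := e ^ (p ^ j) with hy
      have hym : y ^ m = 1 := by
        rw [hy, ← pow_mul, ← hjm, pow_orderOf_eq_one]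
      have hmc : m.Coprime p :=
        ((Nat.Prime.coprime_iff_not_dvd (Fact.out : p.Prime)).mpr hmp).symm
      have hyU : ∀ u ∈ U, y * u = u * y := by
        intro u hu
        have h1 : y ∈ Subgroup.centralizer (U : Set X) := Subgroup.pow_mem _ heU _
        rw [Subgroup.mem_centralizer_iff] at h1
        exact (h1 u hu).symm
      have hyP : ∀ v ∈ P, y * v * y⁻¹ * v⁻¹ ∈ U := by
        intro v hv
        have h1 : f y ∈ Subgroup.centralizer (Pb : Set (X ⧸ U)) := by
          rw [hy, map_pow]; exact Subgroup.pow_mem _ heP _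
        rw [Subgroup.mem_centralizer_iff] at h1
        have h2 := h1 (f v) ⟨v, hv, rfl⟩
        rw [← (QuotientGroup.eq_one_iff (N := U) _)]
        show f (y * v * y⁻¹ * v⁻¹) = 1
        rw [map_mul, map_mul, map_mul, map_inv, map_inv, ← h2]
        group
      have hcen := centralizes_of_chain P U hUP hPp y m hmc hym hyU hyP
      refine ⟨k₁ + k₂ + j, ?_⟩
      have : d ^ (p ^ (k₁ + k₂ + j)) = y := by rw [hy, he, ← pow_mul, ← pow_add]
      rw [this, Subgroup.mem_centralizer_iff]
      intro v hv
      exact (hcen v hv).symm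
    · -- the minimal case
      push Not at hmin
      have hmin' : ∀ U : Subgroup X, U.Normal → U ≤ P → U = ⊥ ∨ U = P := by
        intro U hUn hUP
        by_cases h : U = ⊥
        · left; exact h
        · right; exact hmin U hUn hUP h
      haveI := hPn
      have hcen := hC.min X hX P hPp hPbot hmin' a hq
      exact ⟨Subgroup.centralizer (P : Set X), Subgroup.normal_centralizer, hcen,
        fun d hd => ⟨0, by simpa using hd⟩⟩


theorem StabClass2.pstable_D {p : ℕ} [Fact p.Prime] {C : ∀ (X : Type u) [Group X], Prop}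
    (hC : StabClass2 p C) {X : Type u} [Group X] [Finite X]
    (hX : C X) (P : Subgroup X) [hPn : P.Normal]
    (hPp : IsPGroup p P) (a : X) (hq : ∀ v ∈ P, ⁅a, ⁅a, v⁆⁆ = 1) :
    ∃ D : Subgroup X, D.Normal ∧ a ∈ D ∧
      ∀ d ∈ D, ∃ k : ℕ, d ^ (p ^ k) ∈ Subgroup.centralizer (P : Set X) :=
  hC.ps_group (Nat.card P + 1) X hX P hPn hPp (Nat.lt_succ_self _) a hq

/-- **`p`-stability**: a quadratically acting element maps into `O_p(X / C_X(P))`. -/
theorem StabClass2.mem_pCore_quotient {p : ℕ} [Fact p.Prime]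
    {C : ∀ (X : Type u) [Group X], Prop} (hC : StabClass2 p C) {X : Type u} [Group X] [Finite X]
    (hX : C X) (P : Subgroup X) [hPn : P.Normal]
    (hPp : IsPGroup p P) (a : X) (hq : ∀ v ∈ P, ⁅a, ⁅a, v⁆⁆ = 1) :
    (QuotientGroup.mk a : X ⧸ Subgroup.centralizer (P : Set X)) ∈
      pCore p (X ⧸ Subgroup.centralizer (P : Set X)) := by
  obtain ⟨D, hDn, haD, hD⟩ := hC.pstable_D hX P hPp a hq
  set Cn := Subgroup.centralizer (P : Set X) with hCn
  have hn : (D.map (QuotientGroup.mk' Cn)).Normal := hDn.map _ (QuotientGroup.mk'_surjective Cn)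
  have hp : IsPGroup p (D.map (QuotientGroup.mk' Cn)) := by
    rintro ⟨_, d, hd, rfl⟩
    obtain ⟨k, hk⟩ := hD d hd
    refine ⟨k, ?_⟩
    apply Subtype.ext
    simp only [Subgroup.coe_pow, Subgroup.coe_one]
    rw [← map_pow]
    exact (QuotientGroup.eq_one_iff _).mpr hk
  exact le_pCore' hn hp ⟨a, haD, rfl⟩

/-- `p`-stability in relative index form. -/
theorem StabClass2.pstable_relIndex {p : ℕ} [Fact p.Prime]
    {C : ∀ (X : Type u) [Group X], Prop} (hC : StabClass2 p C) {X : Type u} [Group X] [Finite X]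
    (hX : C X) (P : Subgroup X) [hPn : P.Normal]
    (hPp : IsPGroup p P) (a : X) (hq : ∀ v ∈ P, ⁅a, ⁅a, v⁆⁆ = 1) :
    ∃ D : Subgroup X, D.Normal ∧ Subgroup.centralizer (P : Set X) ≤ D ∧ a ∈ D ∧
      ∃ k : ℕ, (Subgroup.centralizer (P : Set X)).relIndex D = p ^ k := by
  have ha := hC.mem_pCore_quotient hX P hPp a hq
  exact ⟨(pCore p (X ⧸ Subgroup.centralizer (P : Set X))).comap (QuotientGroup.mk' _),
    Subgroup.Normal.comap inferInstance _, le_comap_mk' _ _, ha, relIndex_comap_pCore _⟩

/-- `p`-stability on a section `K / N` with `K` a normal `p`-subgroup. -/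
theorem StabClass2.pstable_section {p : ℕ} [Fact p.Prime]
    {C : ∀ (X : Type u) [Group X], Prop} (hC : StabClass2 p C) {X : Type u} [Group X] [Finite X]
    (hX : C X) (K N : Subgroup X) [hKn : K.Normal] [hNn : N.Normal]
    (hKp : IsPGroup p K) : IsPStableOnSection p K N := by
  intro a ha
  have hq := quad_of_commutator_le K (Subgroup.zpowers a) N ha a (Subgroup.mem_zpowers a)
  have hKn' : (K.map (QuotientGroup.mk' N)).Normal :=
    hKn.map _ (QuotientGroup.mk'_surjective N)
  have hKp' : IsPGroup p (K.map (QuotientGroup.mk' N)) := hKp.map _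
  have hq' : ∀ v ∈ K.map (QuotientGroup.mk' N),
      ⁅(QuotientGroup.mk' N a), ⁅(QuotientGroup.mk' N a), v⁆⁆ = 1 := by
    rintro _ ⟨v, hv, rfl⟩
    rw [← map_commutatorElement, ← map_commutatorElement]
    exact (QuotientGroup.eq_one_iff _).mpr (hq v hv)
  obtain ⟨D, hDn, hCD, haD, k, hk⟩ :=
    hC.pstable_relIndex (hC.quot X N hX)
      (K.map (QuotientGroup.mk' N)) hKp' (QuotientGroup.mk' N a) hq'
  refine ⟨D.comap (QuotientGroup.mk' N), hDn.comap _, ?_, ⟨k, ?_⟩, haD⟩
  · exact Subgroup.comap_mono hCD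
  · unfold sectionKernel
    rw [Subgroup.relIndex_comap,
      Subgroup.map_comap_eq_self_of_surjective (QuotientGroup.mk'_surjective N), hk]

end Cfsg.Agent.Lib.Helper11.Qd
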