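import Mathlib
import Cfsg.Agent.Lib.Helper11.Qd.QdMin
import Cfsg.Agent.Lib.Helper11.Qd.QdStab
import Cfsg.Agent.Lib.Helper51.InvolvesT

set_option autoImplicit false
set_option linter.unusedSectionVars false
set_option linter.style.haveILetI false

/-! `Qd(p)`-free groups are `p`-stable. -/

namespace Cfsg.Agent.Lib.Helper11.Qd

open Cfsg Cfsg.Agent.Lib.Helper35.PStab
open scoped commutatorElement

universe u

/-- groups not involving `Qd(p)` -/
def NoQd (p : ℕ) (X : Type u) [Group X] : Prop := ¬ Involves ↥(Cfsg.qd p) X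

theorem stabClass2_noQd {p : ℕ} [Fact p.Prime] (hp2 : p ≠ 2) (hgp : GoodPairProvider.{u} p) :
    StabClass2.{u} p (fun X _ => NoQd p X) where
  quot := by
    intro X _ _ N _ hX hinv
    exact hX (Cfsg.Agent.Lib.Helper51.involves_of_surjective (QuotientGroup.mk' N)
      (QuotientGroup.mk'_surjective N) hinv)
  min := by
    intro X _ _ hX P _ hPp hPbot hmin a hq
    exact qd_min hp2 hgp hX P hPp hPbot hmin a hq

theorem NoQd.subgroup {p : ℕ} {X : Type u} [Group X] (hX : NoQd p X) (K : Subgroup X) :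
    NoQd p ↥K := fun h =>
  hX (Cfsg.Agent.Lib.Helper51.involves_of_injective K.subtype K.subtype_injective h)

theorem NoQd.quotient {p : ℕ} {X : Type u} [Group X] (hX : NoQd p X) (N : Subgroup X) [N.Normal] :
    NoQd p (X ⧸ N) := fun h =>
  hX (Cfsg.Agent.Lib.Helper51.involves_of_surjective (QuotientGroup.mk' N)
    (QuotientGroup.mk'_surjective N) h)

/-- `Qd(p)`-free groups act `p`-stably on their normal `p`-subgroups -/
theorem NoQd.isPStableOn {p : ℕ} [Fact p.Prime] (hp2 : p ≠ 2) (hgp : GoodPairProvider.{u} p)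
    {X : Type u} [Group X] [Finite X] (hX : NoQd p X) (P : Subgroup X) [P.Normal]
    (hPp : IsPGroup p P) : IsPStableOn p P := by
  intro a hquad
  have hq := quad_of_commutator P (Subgroup.zpowers a) hquad a (Subgroup.mem_zpowers a)
  exact (stabClass2_noQd hp2 hgp).mem_pCore_quotient hX P hPp a hq

end Cfsg.Agent.Lib.Helper11.Qd
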